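import Cfsg.Agent.Lib.U62Type.Identify
import Cfsg.Agent.Lib.U62Type.Setup
import Cfsg.Agent.Lib.U62Type.OuterSetup
import Cfsg.Agent.Lib.U62Type.OuterMain
import Cfsg.Agent.Lib.ONan.Main
import Cfsg.Agent.Lib.Linear.PSUSimple

/-!
# From a centraliser of an involution to the generalised Fitting subgroup `U₆(2)`
-/

set_option autoImplicit false
set_option linter.style.haveILetI false

namespace Cfsg.Lib.U6ThreeEnd

open Subgroup

/-- The generalised Fitting subgroup is `U₆(2)` and has trivial centraliser. -/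
def Concl (G : Type*) [Group G] : Prop :=
  (∃ (F : Type) (_ : Field F) (_ : Fintype F), Fintype.card F = 4 ∧
      Nonempty (↥(Cfsg.generalizedFittingSubgroup G) ≃* Cfsg.PSU 6 F 2)) ∧
    Subgroup.centralizer ((Cfsg.generalizedFittingSubgroup G : Subgroup G) : Set G) = ⊥

/-- A normal subgroup `U₆(2)` with trivial centraliser gives the conclusion. -/
theorem concl_of_normal {G : Type*} [Group G] [Finite G] {F : Type} [Field F] [Fintype F] (hF : Fintype.card F = 4)
    {L : Subgroup G} (hn : L.Normal) (e : L ≃* Cfsg.PSU 6 F 2) (hc : centralizer (L : Set G) = ⊥) : Concl G := by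
  haveI : IsSimpleGroup (Cfsg.PSU 6 F 2) :=
    Cfsg.Lib.Linear.Herm.psu_simple (by rw [hF]; norm_num) (by norm_num)
  have hL : IsSimpleGroup L := MulEquiv.isSimpleGroup e
  have hFit := Cfsg.Lib.ONan.generalizedFitting_eq hn hL hc
  exact ⟨⟨F, inferInstance, inferInstance, hF, ⟨(MulEquiv.subgroupCongr hFit).trans e⟩⟩, by rw [hFit, hc]⟩

/-- The conclusion passes to a group with a normal subgroup containing its centraliser. -/
theorem lift {G : Type*} [Group G] [Finite G] {G₀ : Subgroup G} (hn : G₀.Normal) (h : Concl G₀)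
    (hc : centralizer (G₀ : Set G) ≤ G₀) : Concl G := by
  obtain ⟨⟨F, _, _, hF, ⟨e⟩⟩, hcen⟩ := h
  set L₀ := Cfsg.generalizedFittingSubgroup G₀
  haveI : L₀.Characteristic := Cfsg.Lib.Core.generalizedFittingSubgroup_characteristic
  set L := L₀.map G₀.subtype with hL
  haveI hLn : L.Normal := inferInstance
  refine concl_of_normal hF hLn ((L₀.equivMapOfInjective _ G₀.subtype_injective).symm.trans e) ?_
  set C := centralizer (L : Set G) with hC
  haveI : C.Normal := inferInstance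
  have hC₀ : ∀ x ∈ C, x ∈ G₀ → x = 1 := by
    intro x hx hx₀
    have : (⟨x, hx₀⟩ : G₀) ∈ centralizer (L₀ : Set G₀) :=
      fun y hy => Subtype.ext (hx y.1 ⟨y, hy, rfl⟩)
    rw [hcen, mem_bot] at this
    exact congrArg Subtype.val this
  refine (eq_bot_iff_forall C).2 fun x hx => hC₀ x hx (hc fun g hg => ?_)
  have h1 : g * x * g⁻¹ * x⁻¹ ∈ C := mul_mem (Normal.conj_mem inferInstance x hx g) (inv_mem hx)
  have h2 : g * x * g⁻¹ * x⁻¹ ∈ G₀ := by
    rw [mul_assoc, mul_assoc, ← mul_assoc x g⁻¹]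
    exact mul_mem hg (hn.conj_mem _ (inv_mem hg) x)
  exact mul_inv_eq_iff_eq_mul.1 (mul_inv_eq_one.1 (hC₀ _ h1 h2))

/-- The conclusion from an involution with centraliser `2^(1+8).U₄(2)` or its extension by an outer automorphism. -/
theorem of_involution {G : Type*} [Group G] [Finite G] (t : G) (ht : orderOf t = 2)
    {F : Type*} [Field F] [Fintype F] (hF : Fintype.card F = 3)
    (hJ : Cfsg.IsExtraspecial 2 ↥(Cfsg.pCore 2 ↥(centralizer ({t} : Set G))))
    (hJc : Nat.card ↥(Cfsg.pCore 2 ↥(centralizer ({t} : Set G))) = 2 ^ 9)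
    (hCJ : centralizer ((Cfsg.pCore 2 ↥(centralizer ({t} : Set G))) : Set ↥(centralizer ({t} : Set G))) ≤
      Cfsg.pCore 2 ↥(centralizer ({t} : Set G)))
    [(Cfsg.pCore 2 ↥(centralizer ({t} : Set G))).Normal]
    (he : Nonempty ((↥(centralizer ({t} : Set G)) ⧸ Cfsg.pCore 2 ↥(centralizer ({t} : Set G))) ≃* Cfsg.PSp 2 F) ∨
      Nonempty ((↥(centralizer ({t} : Set G)) ⧸ Cfsg.pCore 2 ↥(centralizer ({t} : Set G))) ≃*
        MulAut (Cfsg.PSp 2 F)))
    (hne : centralizer ({t} : Set G) ⊔ Cfsg.oddCore G ≠ ⊤) :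
    (∃ (F : Type) (_ : Field F) (_ : Fintype F), Fintype.card F = 4 ∧
      Nonempty (↥(Cfsg.generalizedFittingSubgroup G) ≃* Cfsg.PSU 6 F 2)) ∧
    centralizer ((Cfsg.generalizedFittingSubgroup G : Subgroup G) : Set G) = ⊥ := by
  letI : Fintype (GaloisField 2 2) := Fintype.ofFinite _
  have hK : Fintype.card (GaloisField 2 2) = 4 := by
    rw [Fintype.card_eq_nat_card, GaloisField.card 2 2 (by norm_num)]; norm_num
  rcases he with ⟨⟨e⟩⟩ | ⟨⟨e⟩⟩
  · obtain ⟨hc, C, ⟨Fr⟩⟩ := Cfsg.Lib.U62Type.frame_of_psp ht hF hJ hJc hCJ e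
    rcases Cfsg.Lib.U62Type.dichotomy Fr hc with h | h
    · exact absurd (Cfsg.Lib.A4Stab.centralizer_sup_oddCore h) hne
    · obtain ⟨i⟩ := h.iso hK
      haveI : IsSimpleGroup (Cfsg.PSU 6 (GaloisField 2 2) 2) :=
        Cfsg.Lib.Linear.Herm.psu_simple (by rw [hK]; norm_num) (by norm_num)
      haveI : IsSimpleGroup G := MulEquiv.isSimpleGroup i
      refine concl_of_normal hK (L := ⊤) inferInstance (Subgroup.topEquiv.trans i) ?_
      rw [coe_top, centralizer_univ]
      refine ((inferInstance : (center G).Normal).eq_bot_or_eq_top).resolve_right fun hz => ?_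
      refine hne (le_antisymm le_top (le_trans ?_ le_sup_left))
      intro g _
      exact mem_centralizer_singleton_iff.2 (mem_center_iff.1 (hz ▸ mem_top t) g)
  · obtain ⟨C, Fr, O⟩ := Cfsg.Lib.U62Type.outer_of_aut ht hF hJ hJc hCJ e
    rcases Cfsg.Lib.U62Type.outer_main O hK with ⟨G₀, hi, ⟨i⟩, hc⟩ | h
    · exact concl_of_normal hK (normal_of_index_eq_two hi) i hc
    · exact absurd (Cfsg.Lib.A4Stab.centralizer_sup_oddCore h) hne

end Cfsg.Lib.U6ThreeEnd
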