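import Mathlib

/-!
# An involution moving every coset of a subgroup whose index is twice an odd number
-/

set_option autoImplicit false

namespace Cfsg.Lib.U6ThreeEnd

/-- Such an involution induces an odd permutation, so it lies outside a subgroup of index two. -/
theorem exists_sign_hom {G : Type*} [Group G] [Finite G] (M : Subgroup G) {s : G} (hs : s * s = 1)
    {m : ℕ} (hm : Odd m) (hidx : M.index = 2 * m) (hno : ∀ g : G, g * s * g⁻¹ ∉ M) :
    ∃ f : G →* ℤˣ, f s = -1 := by
  classical
  haveI : Fintype (G ⧸ M) := Fintype.ofFinite _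
  refine ⟨Equiv.Perm.sign.comp (MulAction.toPermHom G (G ⧸ M)), ?_⟩
  set σ := MulAction.toPermHom G (G ⧸ M) s with hσ
  have hmove : ∀ c, σ c ≠ c := by
    intro c hc
    obtain ⟨g, rfl⟩ := QuotientGroup.mk_surjective c
    refine hno g⁻¹ ?_
    have h : ((s * g : G) : G ⧸ M) = (g : G ⧸ M) := hc
    rw [QuotientGroup.eq] at h
    have := inv_mem h
    rw [show ((s * g)⁻¹ * g)⁻¹ = g⁻¹ * s * g⁻¹⁻¹ by group] at this
    exact this
  have hsupp : σ.support = Finset.univ := Finset.eq_univ_iff_forall.2 fun c => Equiv.Perm.mem_support.2 (hmove c)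
  have h2 : σ * σ = 1 := by rw [hσ, ← map_mul, hs, map_one]
  have hc : ∀ n ∈ σ.cycleType, n = 2 := fun n hn => by
    have h1 := (Equiv.Perm.dvd_of_mem_cycleType hn).trans (orderOf_dvd_of_pow_eq_one (by rw [pow_two]; exact h2))
    have h3 := Equiv.Perm.two_le_of_mem_cycleType hn
    exact le_antisymm (Nat.le_of_dvd (by norm_num) h1) h3
  have hrep : σ.cycleType = Multiset.replicate m 2 := by
    have h1 : σ.cycleType = Multiset.replicate (Multiset.card σ.cycleType) 2 :=
      Multiset.eq_replicate.2 ⟨rfl, hc⟩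
    have h3 := σ.sum_cycleType
    rw [hsupp, Finset.card_univ, ← Nat.card_eq_fintype_card, ← Subgroup.index_eq_card, hidx, h1,
      Multiset.sum_replicate, smul_eq_mul] at h3
    rw [h1, show Multiset.card σ.cycleType = m by omega]
  show Equiv.Perm.sign σ = -1
  rw [Equiv.Perm.sign_of_cycleType, hrep, Multiset.sum_replicate, Multiset.card_replicate, smul_eq_mul,
    Odd.neg_one_pow]
  obtain ⟨j, rfl⟩ := hm
  exact ⟨3 * j + 1, by ring⟩

end Cfsg.Lib.U6ThreeEnd
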