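import Cfsg.Agent.Lib.U62Core.Tables

/-!
# Finite facts for the normaliser of the extraspecial group when a scalar acts
-/

set_option autoImplicit false
set_option Elab.async false
set_option maxRecDepth 20000

namespace Cfsg.Lib.U6ThreeEnd

open Cfsg.Lib.U62Type Cfsg.Lib.U62Core

/-- A reflection of order three. -/
def reflC : ℕ := mkc fun i => [1, 2, 4, 8, 16, 32, 128, 192].getD i 0

/-- The same scalar on two coordinates and trivial on the others. -/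
def pairC : ℕ := mkc fun i => [1, 2, 4, 8, 32, 48, 128, 192].getD i 0

/-- The scalar and its inverse twice each. -/
def nC : ℕ := mkc fun i => [2, 3, 8, 12, 48, 16, 192, 64].getD i 0

/-- The map turning the plane on `a` and `b` and fixing its orthogonal. -/
def turn (a b v : ℕ) : ℕ :=
  v ^^^ (if Nat.beq (cform cfgU v b) 1 then a ^^^ b else 0) ^^^ (if Nat.beq (cform cfgU v a) 1 then a else 0)

/-- Its code. -/
def reflK (a b : ℕ) : ℕ := mkc fun i => turn a b (2 ^ i)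

/-- The semilinear candidates. -/
def candC (m : ℕ) : ℕ := mkc fun i =>
  let x := 4 ^ (i / 2)
  if Nat.beq (bit m (i / 2)) 1 then (if Nat.beq (i % 2) 0 then 3 * x else x)
  else (if Nat.beq (i % 2) 0 then 2 * x else 3 * x)

/-- Words moving every plane into the orthogonal of the listed one. -/
def moveW : List (List ℕ) :=
  [[], [2], [2, 2], [2, 2, 1], [3], [3, 0], [3, 0, 0], [3, 2, 2, 1, 0, 2], [3, 2, 2, 0, 1, 2], [3, 2, 2, 0, 2, 2],
  [3, 2, 0, 2, 0, 3], [3, 2, 2, 0, 2, 2, 0], [3, 2, 0, 2, 0, 3, 0]]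

/-- Their codes. -/
def moveC : List ℕ :=
  [9241421688590303745, 144537675956750340, 577588857680175120, 577588856066441280, 3032481955784534100,
  3032481954436218024, 3032481957148775676, 4551628845011453391, 1531120869929439114, 1531170592664954964,
  3976235199501651657, 1531170591316638888, 3976235198993041230]

/-- Words in the generators and a turn, carrying the scalar to the other scalar. -/
def lowW : List (List ℕ) :=
  [[2, 2, 4, 1, 5], [2, 2, 5, 1, 4], [3, 0, 2, 0, 2, 0, 0, 3, 0, 5, 0, 1, 4], [3, 0, 2, 0, 2, 0, 0, 3, 0, 4, 0, 1,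
  5], [3, 0, 2, 0, 3, 2, 0, 0, 3, 4, 1, 0, 5], [3, 0, 2, 0, 3, 2, 0, 0, 3, 5, 1, 0, 4], [2, 5, 0, 4], [2, 4, 0, 5],
  [3, 2, 0, 0, 2, 0, 3, 2, 1, 2, 4, 1, 0, 5], [3, 2, 0, 0, 2, 0, 3, 2, 1, 2, 5, 1, 0, 4], [3, 2, 1, 0, 2, 0, 5, 3,
  4], [3, 2, 1, 0, 2, 0, 4, 3, 5]]

/-- Words carrying the listed plane to planes that cut down the candidates. -/
def cutW : List (List ℕ) :=
  [[3], [3, 2, 2, 2]]

/-- Words carrying the listed plane to the coordinate planes. -/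
def baseW : List (List ℕ) :=
  [[2], [1, 2], [2, 1, 2], []]

/-- Transitivity on nonsingular vectors. -/
def chainA : List (List ℕ) :=
  [[], [0, 0], [0], [1], [1, 0], [0, 1], [2, 2], [3, 2], [3, 0, 2], [3, 0, 0, 2], [3, 0, 2, 0], [3, 0, 0, 2, 0], [3,
  2, 0], [3, 0, 0, 2, 1], [3, 2, 0, 0], [3, 0, 2, 0, 0], [0, 0, 2, 2], [3, 0, 1, 2, 2], [3, 0, 3, 2, 2, 0], [0, 0,
  3, 2, 0, 0], [0, 0, 3, 0, 0, 2], [0, 0, 3, 2], [0, 0, 3, 0, 2], [0, 0, 3, 2, 0], [0, 0, 3, 0, 2, 0], [3, 0, 3, 2,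
  2], [0, 2, 2], [3, 1, 0, 2, 2], [0, 3, 2, 0], [0, 3, 0, 2, 0], [0, 3, 2, 0, 0], [0, 3, 0, 2, 0, 0], [3, 1, 0, 2,
  2, 0], [0, 3, 0, 2], [0, 3, 0, 0, 2], [0, 3, 2], [2], [3, 2, 2], [3, 0, 2, 0, 2], [3, 0, 0, 2, 1, 2], [3, 0, 2, 0,
  2, 0], [3, 0, 2, 0, 0, 3], [3, 2, 2, 0], [3, 1, 0, 2, 2, 2], [3, 2, 2, 0, 0], [0, 3, 0, 2, 2], [3, 1], [3, 0, 1],
  [3, 1, 0], [3], [3, 0], [3, 0, 0], [3, 0, 2, 2, 2], [1, 0, 3, 0, 2, 1], [3, 0, 2, 2, 2, 0], [3, 0, 2, 2, 2, 1],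
  [1, 0, 3, 0, 2], [1, 0, 3, 0, 2, 0], [3, 0, 0, 2, 2, 2], [3, 2, 0, 2, 0, 2], [3, 0, 3, 0, 2, 1], [3, 0, 3, 0, 2,
  0], [3, 0, 3, 0, 2, 0, 0], [3, 0, 3, 0, 2], [0, 0, 2], [3, 0, 2, 2], [3, 0, 0, 2, 0, 2], [3, 2, 0, 0, 2], [3, 0,
  0, 2, 0, 2, 0], [0, 0, 3, 2, 2], [3, 0, 2, 2, 0], [0, 3, 2, 0, 2], [3, 0, 2, 2, 0, 0], [0, 3, 0, 0, 2, 2], [3, 0,
  1, 2, 1], [3, 0, 1, 2, 0, 1], [3, 0, 1, 2, 1, 0], [3, 0, 1, 2], [3, 0, 1, 2, 0], [3, 0, 1, 2, 0, 0], [1, 0, 3, 0],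
  [1, 0, 3], [3, 0, 0, 3], [0, 0, 3, 0, 0], [0, 0, 3], [0, 0, 3, 0], [3, 2, 0, 2, 2], [3, 0, 3, 2, 1, 0], [3, 0, 3,
  2, 1], [3, 0, 3, 2, 0], [3, 0, 3, 2, 0, 0], [3, 0, 3, 2], [0, 2], [3, 0, 0, 2, 2], [3, 2, 0, 2], [3, 0, 2, 0, 0,
  2], [3, 2, 0, 2, 0], [0, 0, 3, 0, 2, 2], [3, 0, 0, 2, 2, 0], [0, 3, 0, 2, 0, 2], [3, 0, 0, 2, 2, 0, 0], [0, 3, 2,
  2], [3, 1, 0, 2, 1], [3, 2, 2, 0, 2], [3, 1, 0, 2, 1, 0], [3, 1, 0, 2], [3, 1, 0, 2, 0], [3, 1, 0, 2, 0, 0], [3,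
  2, 0, 0, 2, 2], [3, 0, 0, 3, 2, 1], [3, 2, 0, 0, 2, 2, 0], [3, 0, 0, 3, 2, 0, 0], [3, 0, 0, 3, 2], [3, 0, 0, 3, 2,
  0], [3, 0, 3, 0], [3, 0, 3], [0, 3, 1], [0, 3, 0], [0, 3, 0, 0], [0, 3]]

/-- The same in the stabiliser of the first. -/
def chainB : List (List ℕ) :=
  [[], [2, 2, 2, 0, 2, 0], [2, 0, 2, 2, 2], [2, 2, 2, 1], [0, 2, 2, 2, 0, 1], [2, 0, 2, 2, 1], [1, 2], [0, 2, 0, 3,
  0, 2, 0, 0, 3, 0, 2, 1, 0], [0, 3, 2, 0, 0, 2, 0, 3, 2, 2], [3, 2, 0, 1, 2, 0, 3, 2, 0, 0, 2], [0, 3, 2, 0, 0, 2,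
  0, 3, 2, 1], [3, 2, 0, 0, 2, 0, 3, 0, 2, 2, 0], [3, 0, 2, 0, 3, 0, 2, 0, 0, 3, 0], [3, 2, 0, 1, 2, 0, 3, 2, 1, 0],
  [3, 0, 0, 3, 2, 0, 3, 0, 2, 0, 3, 1], [2, 0, 3, 0, 2, 0, 0, 3, 2, 0, 1], [0, 1, 2, 0, 0], [3, 2, 0, 2, 0, 0, 3, 2,
  0, 1], [3, 2, 0, 0, 2, 0, 3, 0, 2, 1, 0], [0, 2, 0, 3, 0, 2, 0, 0, 3, 2, 1, 0], [2, 0, 3, 0, 0, 2, 0, 3, 2, 2, 0],
  [0, 3, 2, 0, 2, 0, 0, 3, 0, 2, 1, 0], [3, 2, 0, 2, 0, 0, 3, 2, 2, 0, 0], [0, 3, 0, 2, 1, 0, 3, 2, 2, 0, 3], [0, 3,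
  2, 0, 0, 2, 0, 3, 0, 2, 2], [2, 0, 3, 0, 0, 2, 0, 3, 2, 1, 0], [1, 0, 2, 0], [3, 2, 0, 0, 2, 0, 3, 2, 1, 0], [3,
  0, 2, 1, 0, 3, 0, 2, 0, 0, 3, 2], [3, 2, 0, 3, 2, 0, 0, 3, 2, 0, 1], [0, 3, 2, 0, 2, 0, 0, 3, 2, 1, 0], [0, 3, 2,
  0, 0, 2, 0, 3, 0, 2, 1], [3, 2, 0, 3, 0, 2, 0, 3, 2, 1, 0], [3, 2, 0, 3, 2, 0, 0, 3, 2, 0, 2], [3, 2, 0, 0, 2, 0,
  3, 2, 2, 0], [0, 3, 2, 0, 2, 0, 0, 3, 2, 2, 0]]

/-- The same in the stabiliser of two. -/
def chainC : List (List ℕ) :=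
  [[], [2, 2, 0, 0, 2, 2], [2, 2, 0, 2, 2], [2, 2, 1, 2, 2], [2, 2, 1, 0, 2, 2], [2, 2, 0, 1, 2, 2]]

/-- Conjugates of the generators under the reflection. -/
def normW : List (List ℕ) :=
  [[0], [1], [2, 2, 2, 0, 2, 2], [0, 3, 1, 2, 0, 3, 2, 1, 2, 0, 0]]

/-- Conjugates of the pair and the words giving them. -/
def pairL : List (ℕ × List ℕ) :=
  [(14593139621087208081, [2, 2, 0, 3, 2, 2]), (13871122105527173890, [2]), (14882494792261235361, [0, 3]),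
  (15110532071304152781, [3, 1, 2]), (9241439349563195905, [2, 2, 2]), (10480849315205433294, [3, 2, 1, 2]),
  (15254370148642557513, [1, 0, 3, 2]), (12782267322993101766, [2, 0, 3, 1, 2]), (11624908447407230922, [2, 1, 0, 3,
  2]), (9749775424160306034, [0, 2, 2, 0, 3]), (16398424916588463693, [2, 2, 1, 0, 3, 2]), (9963416024548701090, [0,
  0, 2, 0, 2, 0, 0, 3]), (13576298312600529429, [2, 2, 2, 0, 3]), (9963410569404404658, [0, 2, 0, 0, 3, 2]),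
  (13000961264410303029, [0, 2, 2, 0, 3, 2]), (10181273291222184930, [0, 0, 2, 2, 0, 3]), (14307158847877599921, [3,
  0, 2, 2, 0, 3]), (12926101036075421514, [2, 1, 2, 0, 0, 3]), (14665468807115747937, [2, 2, 2, 0, 0, 3, 2]),
  (10624691807484086094, [0, 2, 0, 1, 2, 0, 3]), (10252769039113315218, [2, 1, 2, 2, 0, 3, 1, 2]),
  (14954818429004777294, [3, 0, 2, 1, 2, 1, 0, 3, 2])]

/-- The vectors moved by each kind of involution. -/
def diffL : List (List ℕ) :=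
  [[0], [0, 85, 170, 255], [0, 5, 10, 15, 80, 85, 90, 95, 160, 165, 170, 175, 240, 245, 250, 255]]

/-- The codes of the involutions and of the identity. -/
def kindL : List ℕ := [idc, xC gensU 0, xC gensU 1]

/-- Being an anisotropic plane. -/
def anis (a b : ℕ) : Bool := Nat.beq (qU a) 1 && Nat.beq (qU b) 1 && Nat.beq (qU (a ^^^ b)) 1

theorem turn_ok : (vecs.all fun v => Nat.beq (ap reflC v) (turn 64 128 v)) = true := by decide +kernel

theorem omega_sum : (vecs.all fun v => Nat.beq (ap omC (ap omC v)) (ap omC v ^^^ v)) = true := by decide +kernel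

theorem move_eq : moveC = moveW.map (cw gensU) ∧ moveW.all (fun w => w.all fun i => Nat.blt i 4) = true := by
  decide +kernel

theorem plane_ok : (vecs.all fun a => !(Nat.beq (qU a) 1) || vecs.all fun b => !(anis a b) ||
    moveC.any fun c => Nat.blt (ap c a) 64 && Nat.blt (ap c b) 64) = true := by decide +kernel

theorem low_words : (lowW.all fun w => w.all fun i => Nat.blt i 6) = true := by decide +kernel

theorem low_ok : ((List.range 64).all fun a => (List.range 64).all fun b => !(anis a b) ||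
    Nat.beq (ap omC a) b || Nat.beq (ap omC a) (a ^^^ b) || lowW.any fun w =>
      let k := cw (gensU ++ [reflK a b, cm (reflK a b) (reflK a b)]) w
      Nat.beq (cm k omC) (cm nC k)) = true := by decide +kernel

theorem base_ok : baseW.length = 4 ∧ (baseW.all fun w => w.all fun i => Nat.blt i 4) = true ∧
    ∀ i < 4, (baseW.getD i []).foldr (fun g v => ap (gensU.getD g 0) v) 64 = 4 ^ i ∧
      (baseW.getD i []).foldr (fun g v => ap (gensU.getD g 0) v) 128 = 2 * 4 ^ i := by decide +kernel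

theorem cut_ok : (cutW.all fun w => w.all fun i => Nat.blt i 4) = true ∧
    ((List.range 16).all fun m => Nat.beq (candC m) omC || Nat.beq (candC m) (cm omC omC) || cutW.any fun w =>
      let k := cw gensU w
      !(Nat.beq (ap (candC m) (ap k 64)) (ap k 128) || Nat.beq (ap (candC m) (ap k 64)) (ap k 192))) = true := by
  decide +kernel

/-- The transitivity of the listed words, fixing `fs`, on the vectors orthogonal to `os`. -/
def chainChk (T : List (List ℕ)) (fs os : List ℕ) (target : ℕ) : Bool :=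
  T.all (fun w => w.all (fun i => Nat.blt i 4) && fs.all fun f => Nat.beq (w.foldr (fun g v => ap (gensU.getD g 0) v) f) f) &&
    vecs.all fun v => !(Nat.beq (qU v) 1 && os.all fun f => Nat.beq (cform cfgU v f) 0) ||
      T.any fun w => Nat.beq (w.foldr (fun g x => ap (gensU.getD g 0) x) v) target

theorem chainA_ok : chainChk chainA [] [] 1 = true := by decide +kernel

theorem chainB_ok : chainChk chainB [1] [1, 2] 4 = true := by decide +kernel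

theorem chainC_ok : chainChk chainC [1, 4] [1, 2, 4, 8] 16 = true := by decide +kernel

theorem rest_ok : (vecs.all fun v =>
    !(Nat.beq (qU v) 1 && [1, 2, 4, 8, 16, 32].all fun f => Nat.beq (cform cfgU v f) 0) ||
      let k := mkc fun i => [1, 2, 4, 8, 16, 32, v, ap omC v].getD i 0
      [idc, reflC, cm reflC reflC].any fun c => Nat.beq k c) = true := by decide +kernel

theorem norm_ok : normW.all (fun w => w.all fun i => Nat.blt i 4) = true ∧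
    ∀ i < 4, cm reflC (gensU.getD i 0) = cm (cw gensU (normW.getD i [])) reflC := by decide +kernel

theorem pair_ok : (pairL.all fun p => p.2.all (fun i => Nat.blt i 4) && Nat.blt p.1 (2 ^ 64) &&
    commB p.1 omC && Nat.beq (cm (cw gensU p.2) pairC) (cm p.1 (cw gensU p.2))) = true := by decide +kernel

theorem fix_ok : ((List.range 3).all fun k =>
    let r := kindL.getD k 0
    let D := diffL.getD k []
    D.all (fun d => vecs.any fun x => Nat.beq (ap r x ^^^ x) d) &&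
      vecs.all fun v => !(Nat.beq (ap r v) v) || pairL.any fun p => commB p.1 r &&
        D.any fun d => Nat.beq (ap p.1 (v ^^^ d)) (v ^^^ d)) = true := by decide +kernel

theorem line_isotropic : (l1L.all fun u => l1L.all fun v => Nat.beq (cform cfgU u v) 0) = true := by decide +kernel

theorem code_facts : cm omC (cm omC omC) = idc ∧ omC ≠ idc ∧ omC ≠ cm omC omC ∧ pairC ≠ idc ∧ reflC ≠ idc ∧
    reflC < 2 ^ 64 ∧ cm reflC omC = cm omC reflC ∧ cm reflC (cm reflC reflC) = idc := by decide +kernel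

end Cfsg.Lib.U6ThreeEnd
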