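import Cfsg.Agent.Lib.U62Core.Mod
import Cfsg.Agent.Lib.U6ThreeEnd.TwistChecks

/-!
# A normaliser of the extraspecial group in which a scalar acts: the action is semilinear
-/

set_option autoImplicit false
set_option linter.unusedSectionVars false

namespace Cfsg.Lib.U6ThreeEnd

open Cfsg.Lib.U62Type Cfsg.Lib.U62Core

/-- The standing data, inside the normaliser. -/
structure Tw (H : Type*) [Group H] where
  z : H
  F : Frame cfgU z
  central : ∀ h, Commute h z
  I : Subgroup H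
  hJI : F.J ≤ I
  gens : ∀ i < 4, ∃ h ∈ I, F.κ h = gensU.getD i 0
  cardI : Nat.card I = 512 * 25920
  y : H
  y3 : y ^ 3 = 1
  y_code : F.κ y = omC
  p : H
  p3 : p ^ 3 = 1
  p_code : F.κ p = pairC
  e : H
  e3 : e ^ 3 = 1
  e_code : F.κ e = reflC
  nconj : ∀ g, F.κ (g * y * g⁻¹) ≠ nC

theorem turn_lt {a b v : ℕ} (ha : a < 256) (hb : b < 256) (hv : v < 256) : turn a b v < 256 := by
  unfold turn
  refine xor_lt (xor_lt hv ?_) ?_ <;> split
  exacts [xor_lt ha hb, by norm_num, ha, by norm_num]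

theorem omC_sq_apply {v : ℕ} (hv : v < 256) : ap omC (ap omC v) = ap omC v ^^^ v := by
  have h := omega_sum
  simp only [List.all_eq_true, nbeq_iff, vecs, List.mem_range] at h
  exact h v hv

theorem anis_iff {a b : ℕ} : anis a b = true ↔ qU a = 1 ∧ qU b = 1 ∧ qU (a ^^^ b) = 1 := by
  simp [anis, and_assoc]

theorem ap_word : ∀ (w : List ℕ) {v : ℕ}, v < 256 →
    ap (cw gensU w) v = w.foldr (fun g x => ap (gensU.getD g 0) x) v
  | [], v, hv => by rw [cw_nil, ap_idc hv]; rfl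
  | a :: w, v, hv => by rw [cw_cons, ap_cm, ap_word w hv, List.foldr_cons]

namespace Tw

variable {H : Type*} [Group H] (W : Tw H)

theorem mul (a b : H) : W.F.κ (a * b) = cm (W.F.κ a) (W.F.κ b) := W.F.κ_mul (W.central a) (W.central b)

theorem inv₁ (a : H) : cm (W.F.κ a) (W.F.κ a⁻¹) = idc := (W.F.κ_inv (W.central a)).1

theorem inv₂ (a : H) : cm (W.F.κ a⁻¹) (W.F.κ a) = idc := (W.F.κ_inv (W.central a)).2

theorem norm (h : H) {j : H} (hj : j ∈ W.F.J) : h * j * h⁻¹ ∈ W.F.J := W.F.ext.norm h (W.central h) j hj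

theorem act (h : H) {j : H} (hj : j ∈ W.F.J) : W.F.vc (h * j * h⁻¹) = ap (W.F.κ h) (W.F.vc j) :=
  W.F.act h (W.central h) j hj

theorem eq_iff (a b : H) : W.F.κ a = W.F.κ b ↔ a⁻¹ * b ∈ W.F.J := W.F.κ_eq_iff (W.central a) (W.central b)

theorem conj_code {a b : H} {c : ℕ} (hc : c < 2 ^ 64) (h : cm (W.F.κ a) (W.F.κ b) = cm c (W.F.κ a)) :
    W.F.κ (a * b * a⁻¹) = c := by
  rw [W.mul, W.mul, h, cm_assoc, W.inv₁, cm_idc hc]

theorem cancel (h : H) {v : ℕ} (hv : v < 256) :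
    ap (W.F.κ h⁻¹) (ap (W.F.κ h) v) = v ∧ ap (W.F.κ h) (ap (W.F.κ h⁻¹) v) = v := by
  rw [← ap_cm, ← ap_cm, W.inv₁, W.inv₂, ap_idc hv]
  exact ⟨rfl, rfl⟩

theorem form (h : H) {u v : ℕ} (hu : u < 256) (hv : v < 256) :
    cform cfgU (ap (W.F.κ h) u) (ap (W.F.κ h) v) = cform cfgU u v := by
  rw [cform, cform, ← ap_xor, W.F.q_inv (W.central h) (xor_lt hu hv), W.F.q_inv (W.central h) hu,
    W.F.q_inv (W.central h) hv]

theorem word {h : H} (hh : h ∈ W.I) [Finite H] : WordCode gensU (W.F.κ h) := by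
  obtain ⟨h', rfl⟩ : ∃ h' : W.I, (h' : H) = h := ⟨⟨h, hh⟩, rfl⟩
  let FK := W.F.restrict W.I W.hJI fun i hi => by
    obtain ⟨g, hg, he⟩ := W.gens i hi
    exact ⟨g, hg, W.central g, he⟩
  exact FK.word_code (by
    rw [card_centralizer_sub, inf_eq_left.2 fun x _ => Subgroup.mem_centralizer_singleton_iff.2 (W.central x).eq,
      W.cardI]) (h := h') (Subtype.ext (W.central _).eq)

theorem lift : ∀ w : List ℕ, (∀ i ∈ w, i < 4) → ∃ h ∈ W.I, W.F.κ h = cw gensU w
  | [], _ => ⟨1, one_mem _, by rw [W.F.κ_one, cw_nil]⟩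
  | a :: w, hw => by
    obtain ⟨g, hg, hge⟩ := W.gens a (hw a List.mem_cons_self)
    obtain ⟨h, hh, hhe⟩ := lift w fun b hb => hw b (List.mem_cons_of_mem _ hb)
    exact ⟨g * h, mul_mem hg hh, by rw [W.mul, hge, hhe, cw_cons]⟩

theorem mem_I [Finite H] {h : H} : h ∈ W.I ↔ WordCode gensU (W.F.κ h) := by
  refine ⟨fun hh => W.word hh, ?_⟩
  rintro ⟨w, hw, he⟩
  obtain ⟨k, hk, hke⟩ := W.lift w hw
  have := mul_mem hk (W.hJI ((W.eq_iff k h).1 (hke.trans he.symm)))
  rwa [mul_inv_cancel_left] at this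

theorem comm_omega [Finite H] {h : H} (hh : h ∈ W.I) : cm (W.F.κ h) omC = cm omC (W.F.κ h) :=
  omega_comm (W.word hh)

/-- The code of a conjugate of the reflection. -/
theorem turn_code (h : H) :
    W.F.κ (h * W.e * h⁻¹) = reflK (ap (W.F.κ h) 64) (ap (W.F.κ h) 128) := by
  obtain ⟨a, ha⟩ : ∃ a, a = ap (W.F.κ h) 64 := ⟨_, rfl⟩
  obtain ⟨b, hb⟩ : ∃ b, b = ap (W.F.κ h) 128 := ⟨_, rfl⟩
  have ha' : a < 256 := ha ▸ ap_lt _ _
  have hb' : b < 256 := hb ▸ ap_lt _ _
  rw [← ha, ← hb]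
  refine code_ext (W.F.κ_lt _) (mkc_lt fun i hi => turn_lt ha' hb'
    (lt_of_lt_of_le (Nat.pow_lt_pow_right (by norm_num) hi) le_rfl)) fun v hv => ?_
  rw [reflK, exists_code (f := turn a b) (fun u hu => turn_lt ha' hb' hu) ?_ hv]
  · rw [W.mul, W.mul, ap_cm, ap_cm, W.e_code]
    obtain ⟨x, hx⟩ : ∃ x, x = ap (W.F.κ h⁻¹) v := ⟨_, rfl⟩
    have hx' : x < 256 := hx ▸ ap_lt _ _
    have hvx : ap (W.F.κ h) x = v := hx ▸ (W.cancel h hv).2
    have ht := turn_ok
    simp only [List.all_eq_true, nbeq_iff, vecs, List.mem_range] at ht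
    rw [← hx, ht x hx', ← hvx]
    simp only [turn, ha, hb, W.form h hx' (show (64 : ℕ) < 256 by norm_num),
      W.form h hx' (show (128 : ℕ) < 256 by norm_num), ap_xor]
    split_ifs <;> simp only [show (192 : ℕ) = 64 ^^^ 128 by decide, ap_xor, ap_zero]
  · intro u hu w hw
    have h1 : ∀ {c : ℕ}, c < 256 → cform cfgU (u ^^^ w) c = cform cfgU u c ^^^ cform cfgU w c := fun {c} hc => by
      rw [cform_comm, W.F.cform_xor hc hu hw, cform_comm _ c, cform_comm _ c]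
    have hlt : ∀ {x c : ℕ}, x < 256 → c < 256 → cform cfgU x c = 0 ∨ cform cfgU x c = 1 := fun {x c} hx hc => by
      obtain ⟨i, hi, rfl⟩ := W.F.vc_surj x hx
      obtain ⟨j, hj, rfl⟩ := W.F.vc_surj c hc
      have := W.F.cform_lt hi hj
      omega
    simp only [turn, h1 ha', h1 hb', nbeq_iff]
    rcases hlt hu ha' with p | p <;> rcases hlt hw ha' with q | q <;> rcases hlt hu hb' with r | r <;>
      rcases hlt hw hb' with s | s <;> simp only [p, q, r, s] <;> norm_num <;>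
      (apply Nat.eq_of_testBit_eq; intro i; simp only [Nat.testBit_xor]
       cases u.testBit i <;> cases w.testBit i <;> cases a.testBit i <;> cases b.testBit i <;> rfl)

theorem anis_image (h : H) : anis (ap (W.F.κ h) 64) (ap (W.F.κ h) 128) = true := by
  rw [anis_iff, ← ap_xor]
  have hq := fun {v : ℕ} (hv : v < 256) => W.F.q_inv (W.central h) hv
  exact ⟨(hq (v := 64) (by norm_num)).trans (by decide), (hq (v := 128) (by norm_num)).trans (by decide),
    (hq (v := 64 ^^^ 128) (by decide)).trans (by decide)⟩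

theorem lift_ext (g : H) {c : ℕ} (hg : W.F.κ g = c) : ∀ w : List ℕ, (∀ i ∈ w, i < 6) →
    ∃ k, W.F.κ k = cw (gensU ++ [c, cm c c]) w
  | [], _ => ⟨1, by rw [W.F.κ_one, cw_nil]⟩
  | a :: w, hw => by
    obtain ⟨k, hk⟩ := lift_ext g hg w fun b hb => hw b (List.mem_cons_of_mem _ hb)
    have ha := hw a List.mem_cons_self
    rw [cw_cons, ← hk]
    interval_cases a
    any_goals
      first
        | exact ⟨g * k, by rw [W.mul, hg]; rfl⟩
        | exact ⟨g * g * k, by rw [W.mul, W.mul, hg]; rfl⟩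
        | (obtain ⟨u, -, hu⟩ := W.gens 0 (by norm_num); exact ⟨u * k, by rw [W.mul, hu]; rfl⟩)
        | (obtain ⟨u, -, hu⟩ := W.gens 1 (by norm_num); exact ⟨u * k, by rw [W.mul, hu]; rfl⟩)
        | (obtain ⟨u, -, hu⟩ := W.gens 2 (by norm_num); exact ⟨u * k, by rw [W.mul, hu]; rfl⟩)
        | (obtain ⟨u, -, hu⟩ := W.gens 3 (by norm_num); exact ⟨u * k, by rw [W.mul, hu]; rfl⟩)

variable [Finite H]

theorem plane_low (h : H) (ha : ap (W.F.κ h) 64 < 64) (hb : ap (W.F.κ h) 128 < 64) :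
    ap omC (ap (W.F.κ h) 64) = ap (W.F.κ h) 128 ∨
      ap omC (ap (W.F.κ h) 64) = ap (W.F.κ h) 64 ^^^ ap (W.F.κ h) 128 := by
  have hl := low_ok
  simp only [List.all_eq_true, List.mem_range, Bool.or_eq_true, List.any_eq_true, nbeq_iff] at hl
  rcases hl _ ha _ hb with ((e | e) | e) | ⟨w, hw, e⟩
  · rw [W.anis_image h] at e; exact absurd e (by decide)
  · exact Or.inl e
  · exact Or.inr e
  · exfalso
    have hw6 := low_words
    simp only [List.all_eq_true, Nat.blt_eq] at hw6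
    obtain ⟨k, hk⟩ := W.lift_ext _ (W.turn_code h) w (hw6 w hw)
    refine W.nconj k (W.conj_code ?_ ?_)
    · decide +kernel
    · rw [W.y_code, hk]; exact e

/-- Every plane of a conjugate of the reflection is invariant under the scalar. -/
theorem plane (h : H) : ap omC (ap (W.F.κ h) 64) = ap (W.F.κ h) 128 ∨
    ap omC (ap (W.F.κ h) 64) = ap (W.F.κ h) 192 := by
  rw [show (192 : ℕ) = 64 ^^^ 128 by decide, ap_xor]
  have hp := plane_ok
  have hm := move_eq
  simp only [List.all_eq_true, List.any_eq_true, Bool.or_eq_true, Bool.not_eq_true', Bool.and_eq_true, vecs,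
    List.mem_range, Nat.blt_eq] at hp hm
  have han := W.anis_image h
  rcases hp _ (ap_lt (W.F.κ h) 64) with e | e
  · exact absurd (anis_iff.1 han).1 (by simpa [Bool.eq_false_iff, nbeq_iff] using e)
  rcases e _ (ap_lt (W.F.κ h) 128) with e | ⟨c, hc, h1, h2⟩
  · rw [han] at e; exact absurd e (by decide)
  rw [hm.1, List.mem_map] at hc
  obtain ⟨w, hw, rfl⟩ := hc
  obtain ⟨k, hkI, hk⟩ := W.lift w (hm.2 w hw)
  have hlow := W.plane_low (k * h) (by rwa [W.mul, ap_cm, hk]) (by rwa [W.mul, ap_cm, hk])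
  rw [W.mul, ap_cm, ap_cm, ← ap_cm omC, ← W.comm_omega hkI, ap_cm, ← ap_xor (W.F.κ k)] at hlow
  refine hlow.imp (fun e => ?_) fun e => ?_
  all_goals
    have := congrArg (ap (W.F.κ k⁻¹)) e
  · rwa [(W.cancel k (ap_lt _ _)).1, (W.cancel k (ap_lt _ _)).1] at this
  · rwa [(W.cancel k (ap_lt _ _)).1, (W.cancel k (xor_lt (ap_lt _ _) (ap_lt _ _))).1] at this

/-- Every element commutes with the scalar or inverts it. -/
theorem semilinear (h : H) : cm (W.F.κ h) omC = cm omC (W.F.κ h) ∨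
    cm (W.F.κ h) omC = cm (cm omC omC) (W.F.κ h) := by
  obtain ⟨c, hc⟩ : ∃ c, c = cm (cm (W.F.κ h⁻¹) omC) (W.F.κ h) := ⟨_, rfl⟩
  have hap : ∀ v, ap c v = ap (W.F.κ h⁻¹) (ap omC (ap (W.F.κ h) v)) := fun v => by rw [hc, ap_cm, ap_cm]
  have hc2 : ∀ v < 256, ap c (ap c v) = ap c v ^^^ v := fun v hv => by
    rw [hap, hap, (W.cancel h (ap_lt _ _)).2, omC_sq_apply (ap_lt _ _), ap_xor, (W.cancel h hv).1]
  -- the planes of the listed words
  have hk : ∀ w : List ℕ, (∀ i ∈ w, i < 4) → ap c (ap (cw gensU w) 64) = ap (cw gensU w) 128 ∨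
      ap c (ap (cw gensU w) 64) = ap (cw gensU w) 192 := by
    intro w hw
    obtain ⟨k, -, hk⟩ := W.lift w hw
    have hp := W.plane (h * k)
    rw [W.mul, ap_cm, ap_cm, ap_cm, hk] at hp
    refine hp.imp (fun e => ?_) fun e => ?_ <;> rw [hap, e, (W.cancel h (ap_lt _ _)).1]
  obtain ⟨hlen, hw4, hbase⟩ := base_ok
  simp only [List.all_eq_true, Nat.blt_eq] at hw4
  have hpt : ∀ i < 4, ap c (4 ^ i) = 2 * 4 ^ i ∨ ap c (4 ^ i) = 4 ^ i ^^^ 2 * 4 ^ i := by
    intro i hi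
    have hmem : baseW.getD i [] ∈ baseW := by
      rw [List.getD_eq_getElem _ _ (by omega)]; exact List.getElem_mem _
    have := hk _ (hw4 _ hmem)
    rw [show (192 : ℕ) = 64 ^^^ 128 by decide, ap_xor, ap_word _ (show 64 < 256 by norm_num),
      ap_word _ (show 128 < 256 by norm_num), (hbase i hi).1, (hbase i hi).2] at this
    exact this
  -- the candidate
  obtain ⟨f, hf⟩ : ∃ f : ℕ → ℕ, f = fun i => if i < 4 ∧ ap c (4 ^ i) = 4 ^ i ^^^ 2 * 4 ^ i then 1 else 0 :=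
    ⟨_, rfl⟩
  have hf2 : ∀ i, f i < 2 := fun i => by rw [hf]; simp only; split <;> norm_num
  obtain ⟨-, hbit⟩ := bitsOf_spec hf2
  have hm : bitsOf f < 16 := by
    have := hf2 0; have := hf2 1; have := hf2 2; have := hf2 3
    have h4 : ∀ i, 4 ≤ i → f i = 0 := fun i hi => by rw [hf]; simp only; rw [if_neg (by omega)]
    unfold bitsOf
    rw [h4 4 le_rfl, h4 5 (by norm_num), h4 6 (by norm_num), h4 7 (by norm_num)]
    omega
  have hceq : c = candC (bitsOf f) := by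
    rw [← mkc_byte (k := c) (hc ▸ cm_lt _ _), candC]
    refine mkc_congr fun i hi => ?_
    rw [← ap_pow hi]
    have hi4 : i / 2 < 4 := by omega
    simp only
    rw [hbit _ (by omega)]
    have h2i : (2 : ℕ) ^ i = if i % 2 = 0 then 4 ^ (i / 2) else 2 * 4 ^ (i / 2) := by
      interval_cases i <;> rfl
    have hlt : 4 ^ (i / 2) < 256 ∧ 2 * 4 ^ (i / 2) < 256 ∧ 4 ^ (i / 2) ^^^ 2 * 4 ^ (i / 2) = 3 * 4 ^ (i / 2) := by
      interval_cases i <;> decide
    have hsq := hc2 _ hlt.1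
    by_cases hin : ap c (4 ^ (i / 2)) = 4 ^ (i / 2) ^^^ 2 * 4 ^ (i / 2)
    · have e1 : f (i / 2) = 1 := by rw [hf]; simp only; rw [if_pos ⟨hi4, hin⟩]
      rw [hin, ap_xor, hin, hlt.2.2] at hsq
      rw [e1, h2i]
      simp only [nbeq_iff, if_true]
      split
      · rw [hin, hlt.2.2]
      · have := congrArg (fun x => 3 * 4 ^ (i / 2) ^^^ x) hsq
        simp only [← Nat.xor_assoc, Nat.xor_self, Nat.zero_xor] at this
        exact this
    · have e0 : f (i / 2) = 0 := by rw [hf]; simp only; rw [if_neg (fun e => hin e.2)]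
      have h2 := (hpt _ hi4).resolve_right hin
      rw [h2, Nat.xor_comm, hlt.2.2] at hsq
      rw [e0, h2i]
      simp only [nbeq_iff, Nat.zero_ne_one, if_false]
      split
      · exact h2
      · exact hsq
  have hcut := cut_ok
  simp only [List.all_eq_true, List.mem_range, Bool.or_eq_true, List.any_eq_true, Bool.not_eq_true',
    Bool.eq_false_iff, Ne, nbeq_iff, Nat.blt_eq] at hcut
  rw [hceq] at hk
  have hh : cm omC (W.F.κ h) = cm (W.F.κ h) c := by
    rw [hc, ← cm_assoc, ← cm_assoc, W.inv₁, cm_assoc, idc_cm (cm_lt _ _)]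
  rcases hcut.2 _ hm with (e | e) | ⟨w, hw, e1⟩
  · left; rw [hh, hceq, e]
  · right
    rw [cm_assoc omC omC, hh, hceq, e, ← cm_assoc omC (W.F.κ h), hh, hceq, e, cm_assoc, cm_assoc omC omC,
      ← cm_assoc omC omC omC, cm_assoc omC omC omC, code_facts.1, cm_idc (by decide +kernel)]
  · exact absurd (hk w (hcut.1 w hw)) (by tauto)

end Tw

end Cfsg.Lib.U6ThreeEnd
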