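import Cfsg.Agent.Lib.U6ThreeEnd.TwistLift

/-!
# Every involution of the commuting half centralises a conjugate of the pair element
-/

set_option autoImplicit false
set_option linter.unusedSectionVars false

namespace Cfsg.Lib.U6ThreeEnd

open Cfsg.Lib.U62Type Cfsg.Lib.U62Core

namespace Tw

variable {H : Type*} [Group H] [Finite H] (W : Tw H)

/-- Conjugates of the pair element with a prescribed listed code, commuting with the scalar. -/
theorem exists_pair {c : ℕ} {w : List ℕ} (hcw : (c, w) ∈ pairL) :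
    c < 2 ^ 64 ∧ cm c omC = cm omC c ∧
      ∃ g, W.F.κ (g * W.p * g⁻¹) = c ∧ Commute W.y (g * W.p * g⁻¹) ∧ (g * W.p * g⁻¹) ^ 3 = 1 := by
  have hp := pair_ok
  simp only [List.all_eq_true, Bool.and_eq_true, Nat.blt_eq, nbeq_iff, commB_iff] at hp
  obtain ⟨⟨⟨hw4, hlt⟩, hom⟩, heq⟩ := hp _ hcw
  obtain ⟨k, -, hk⟩ := W.lift w hw4
  have hk' : W.F.κ (k * W.p * k⁻¹) = c := W.conj_code hlt (by rw [W.p_code, hk]; exact heq)
  have h3 : (k * W.p * k⁻¹) ^ 3 = 1 := by rw [conj_pow, W.p3, mul_one, mul_inv_cancel]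
  obtain ⟨a, ha, hcomm⟩ := W.exists_three_comm W.y3 h3 (by rw [W.y_code, hk']; exact hom.symm)
  have e : a * k * W.p * (a * k)⁻¹ = a * (k * W.p * k⁻¹) * a⁻¹ := by group
  refine ⟨hlt, hom, a * k, ?_, e ▸ hcomm, ?_⟩
  · have hz := W.central (k * W.p * k⁻¹)
    rw [e, W.F.κ_mulJ ((W.central a).mul_left hz) (inv_mem ha), W.F.κ_Jmul hz ha, hk']
  · rw [conj_pow, W.p3, mul_one, mul_inv_cancel]

theorem invol_comm {u : H} (hu : u ∈ W.M) (h2 : u * u = 1) : ∃ g, Commute u (g * W.p * g⁻¹) := by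
  have huI := W.inner_of_sq hu (by rw [h2]; exact one_mem _)
  have hsq : cm (W.F.κ u) (W.F.κ u) = idc := by rw [← W.mul, h2, W.F.κ_one]
  obtain ⟨g, hg, hkind, -⟩ := W.invol_kind huI hsq
  obtain ⟨v, hv⟩ : ∃ v, v = g * u * g⁻¹ := ⟨_, rfl⟩
  obtain ⟨r, hr⟩ : ∃ r, r = W.F.κ v := ⟨_, rfl⟩
  rw [← hv, ← hr] at hkind
  have hv2 : v * v = 1 := by
    rw [hv, show g * u * g⁻¹ * (g * u * g⁻¹) = g * (u * u) * g⁻¹ by group, h2, mul_one, mul_inv_cancel]
  have hvI : v ∈ W.I := hv ▸ mul_mem (mul_mem hg huI) (inv_mem hg)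
  have hrr : cm r r = idc := by rw [hr, ← W.mul, hv2, W.F.κ_one]
  -- the lift centralised by the scalar
  obtain ⟨a, ha, hka⟩ := W.exists_lift_comm W.y3 (h := v) (by rw [W.y_code]; exact W.comm_omega hvI)
  obtain ⟨k, hk⟩ : ∃ k, k = a * v := ⟨_, rfl⟩
  rw [← hk] at hka
  have hκk : W.F.κ k = r := by rw [hk, W.F.κ_Jmul (W.central v) ha, hr]
  have hκk' : W.F.κ k⁻¹ = r := by
    calc W.F.κ k⁻¹ = cm (W.F.κ k⁻¹) (cm r r) := by rw [hrr, cm_idc (W.F.κ_lt _)]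
      _ = r := by
        rw [← cm_assoc]
        conv_lhs => arg 1; arg 2; rw [← hκk]
        rw [W.inv₂, idc_cm (hr ▸ W.F.κ_lt _)]
  have hkk : k * k ∈ W.F.J := W.F.ker _ (W.central _) (by rw [W.mul, hκk, hrr])
  have hkk0 : W.F.vc (k * k) = 0 := by
    rcases W.fpf hkk (hka.symm.mul_right hka.symm) with e | e <;> rw [e]
    exacts [W.F.vc_one, W.F.vc_z]
  obtain ⟨j, hj⟩ : ∃ j, j = k⁻¹ * v := ⟨_, rfl⟩
  have hjJ : j ∈ W.F.J := hj ▸ (W.eq_iff k v).1 (hκk.trans hr)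
  have hrv : ap r (W.F.vc j) = W.F.vc j := by
    have e : k * j * k⁻¹ = j⁻¹ * (k * k)⁻¹ := by
      have h1 : k * j * (k * j) = 1 := by rw [hj, mul_inv_cancel_left, hv2]
      calc k * j * k⁻¹ = (k * j * (k * j)) * (j⁻¹ * k⁻¹ * k⁻¹) := by group
        _ = j⁻¹ * (k * k)⁻¹ := by rw [h1]; group
    have := W.act k hjJ
    rw [e, W.F.vc_mul _ (inv_mem hjJ) _ (inv_mem hkk), W.F.vc_inv hjJ, W.F.vc_inv hkk, hkk0, Nat.xor_zero, hκk]
      at this
    exact this.symm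
  -- a translate of the vector fixed by a pair
  have hf := fix_ok
  simp only [List.all_eq_true, List.any_eq_true, Bool.and_eq_true, Bool.or_eq_true, List.mem_range, vecs,
    Bool.not_eq_true', Bool.eq_false_iff, Ne, nbeq_iff, commB_iff] at hf
  obtain ⟨i, hi, hir⟩ : ∃ i < 3, kindL.getD i 0 = r := by
    simp only [kindL, List.mem_cons, List.not_mem_nil, or_false] at hkind
    rcases hkind with e | e | e
    exacts [⟨0, by norm_num, e.symm⟩, ⟨1, by norm_num, e.symm⟩, ⟨2, by norm_num, e.symm⟩]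
  obtain ⟨hD, hcov⟩ := hf i hi
  rw [hir] at hD hcov
  obtain ⟨⟨c, w⟩, hcw, hcr, d, hd, hfix⟩ := (hcov _ (W.F.vc_lt j)).resolve_left (fun h => h hrv)
  obtain ⟨x, hx, hxd⟩ := hD d hd
  obtain ⟨b, hb, rfl⟩ := W.F.vc_surj x hx
  obtain ⟨hclt, -, q', hqc, hyq, hq3⟩ := W.exists_pair hcw
  obtain ⟨q, hq⟩ : ∃ q, q = q' * W.p * q'⁻¹ := ⟨_, rfl⟩
  rw [← hq] at hqc hyq hq3
  -- it commutes with the lift and with the translate
  have hqk : Commute q k := by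
    have e : k * q * k⁻¹ = q := by
      refine W.three_unique (by rw [conj_pow, hq3, mul_one, mul_inv_cancel]) hq3 ?_
        ((hka.symm.mul_right hyq).mul_right hka.symm.inv_right) hyq
      rw [W.conj_code hclt (by rw [hκk, hqc]; exact hcr.symm), hqc]
    exact (mul_inv_eq_iff_eq_mul.1 e).symm
  have hb' : k⁻¹ * b * k ∈ W.F.J := by simpa using W.norm k⁻¹ hb
  have hmem : k⁻¹ * b * k * j * b⁻¹ ∈ W.F.J := mul_mem (mul_mem hb' hjJ) (inv_mem hb)
  have hvb : b * v * b⁻¹ = k * (k⁻¹ * b * k * j * b⁻¹) := by rw [hj]; group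
  have hvc : W.F.vc (k⁻¹ * b * k * j * b⁻¹) = W.F.vc j ^^^ d := by
    have h1 := W.act k⁻¹ hb
    rw [inv_inv, hκk'] at h1
    rw [W.F.vc_mul _ (mul_mem hb' hjJ) _ (inv_mem hb), W.F.vc_mul _ hb' _ hjJ, h1, W.F.vc_inv hb, ← hxd,
      Nat.xor_comm (ap r _) (W.F.vc j), Nat.xor_assoc]
  have hqj : Commute q (k⁻¹ * b * k * j * b⁻¹) := W.comm_of_fix hq3 hmem (by rw [hqc, hvc]; exact hfix)
  have hcom : Commute (b * v * b⁻¹) q := hvb ▸ (hqk.mul_right hqj).symm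
  refine ⟨g⁻¹ * b⁻¹ * q', ?_⟩
  have := (Commute.conj_iff (g⁻¹ * b⁻¹)).2 hcom
  rw [hq, hv] at this
  convert this using 1 <;> group

end Tw

end Cfsg.Lib.U6ThreeEnd
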