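import Cfsg.Agent.Lib.U6ThreeEnd.Twist

/-!
# Lifts of order three, and the inner half of the normaliser
-/

set_option autoImplicit false
set_option linter.unusedSectionVars false

namespace Cfsg.Lib.U6ThreeEnd

open Cfsg.Lib.U62Type Cfsg.Lib.U62Core

theorem pow_four_three {H : Type*} [Group H] {w : H} (h : (w ^ 3) ^ 4 = 1) : (w ^ 4) ^ 3 = 1 := by
  rw [← pow_mul] at h ⊢
  exact h

namespace Tw

variable {H : Type*} [Group H] [Finite H] (W : Tw H)

theorem J_pow4 {j : H} (hj : j ∈ W.F.J) : j ^ 4 = 1 := by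
  rw [show j ^ 4 = j * j * (j * j) by simp [pow_succ, mul_assoc]]
  rcases W.F.ext.sq j hj with e | e <;> rw [e]
  · rw [one_mul]
  · exact W.F.ext.z2

theorem z_pow3 : W.z ^ 3 = W.z := by
  rw [show W.z ^ 3 = W.z * W.z * W.z by simp [pow_succ], W.F.ext.z2, one_mul]

/-- Elements of order three with one code are conjugate under the extraspecial group. -/
theorem exists_conj_same {x x' : H} (hx : x ^ 3 = 1) (hx' : x' ^ 3 = 1) (hk : W.F.κ x = W.F.κ x') :
    ∃ a ∈ W.F.J, x' = a * x * a⁻¹ := by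
  classical
  have hd : x' * x⁻¹ ∈ W.F.J := by
    have := W.norm x ((W.eq_iff x x').1 hk)
    rwa [show x * (x⁻¹ * x') * x⁻¹ = x' * x⁻¹ by group] at this
  have hmem : ∀ a ∈ W.F.J, x' * a * x⁻¹ ∈ W.F.J := fun a ha => by
    rw [show x' * a * x⁻¹ = x' * x⁻¹ * (x * a * x⁻¹) by group]
    exact mul_mem hd (W.norm x ha)
  let f : W.F.J → W.F.J := fun a => ⟨x' * a * x⁻¹, hmem a a.2⟩
  have hf : ∀ a, f (f (f a)) = a := fun a => Subtype.ext (by
    show x' * (x' * (x' * a * x⁻¹) * x⁻¹) * x⁻¹ = a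
    rw [show x' * (x' * (x' * a * x⁻¹) * x⁻¹) * x⁻¹ = x' ^ 3 * a * (x ^ 3)⁻¹ by simp [pow_succ, mul_assoc],
      hx, hx', one_mul, inv_one, mul_one])
  let σ : Equiv.Perm W.F.J := ⟨f, fun a => f (f a), hf, hf⟩
  have hσ : σ ^ 3 ^ 1 = 1 := Equiv.ext fun a => by
    simp only [pow_succ, pow_zero, one_mul, Equiv.Perm.mul_apply, Equiv.Perm.one_apply]
    exact hf a
  have : Fact (Nat.Prime 3) := ⟨Nat.prime_three⟩
  let : Fintype W.F.J := Fintype.ofFinite _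
  obtain ⟨a, ha⟩ := Equiv.Perm.exists_fixed_point_of_prime (p := 3) (n := 1)
    (by rw [← Nat.card_eq_fintype_card, W.F.ext.card]; norm_num) hσ
  refine ⟨a, a.2, ?_⟩
  have e : x' * a * x⁻¹ = a := congrArg Subtype.val ha
  calc x' = x' * a * x⁻¹ * x * (a : H)⁻¹ := by group
    _ = a * x * (a : H)⁻¹ := by rw [e]

/-- An element whose code commutes with that of an element of order three has a translate commuting with it. -/
theorem exists_lift_comm {x h : H} (hx : x ^ 3 = 1) (hc : cm (W.F.κ h) (W.F.κ x) = cm (W.F.κ x) (W.F.κ h)) :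
    ∃ a ∈ W.F.J, Commute (a * h) x := by
  obtain ⟨a, ha, e⟩ := W.exists_conj_same hx (x' := h * x * h⁻¹) (by rw [conj_pow, hx, mul_one, mul_inv_cancel])
    (W.conj_code (W.F.κ_lt _) hc).symm
  refine ⟨a⁻¹, inv_mem ha, ?_⟩
  refine mul_inv_eq_iff_eq_mul.1 ?_
  calc a⁻¹ * h * x * (a⁻¹ * h)⁻¹ = a⁻¹ * (h * x * h⁻¹) * a := by group
    _ = x := by rw [e]; group

/-- An element of order three has a conjugate under the extraspecial group commuting with a given one. -/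
theorem exists_three_comm {x q : H} (hx : x ^ 3 = 1) (hq : q ^ 3 = 1)
    (hc : cm (W.F.κ x) (W.F.κ q) = cm (W.F.κ q) (W.F.κ x)) :
    ∃ a ∈ W.F.J, Commute x (a * q * a⁻¹) := by
  obtain ⟨a, ha, hcomm⟩ := W.exists_lift_comm hq hc
  obtain ⟨w, hw⟩ : ∃ w, w = a * x := ⟨_, rfl⟩
  rw [← hw] at hcomm
  have hκw : W.F.κ w = W.F.κ x := by rw [hw, W.F.κ_Jmul (W.central x) ha]
  have h3 : w ^ 3 ∈ W.F.J := by
    refine W.F.ker _ (W.central _) ?_
    rw [show w ^ 3 = w * (w * w) by simp [pow_succ, mul_assoc], W.mul, W.mul, hκw, ← W.mul, ← W.mul,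
      show x * (x * x) = x ^ 3 by simp [pow_succ, mul_assoc], hx, W.F.κ_one]
  obtain ⟨b, hb, e⟩ := W.exists_conj_same (x := w ^ 4) (pow_four_three (W.J_pow4 h3)) hx (by
    rw [show w ^ 4 = w ^ 3 * w from pow_succ w 3, W.F.κ_Jmul (W.central w) h3, hκw])
  exact ⟨b, hb, e ▸ (Commute.conj_iff b).2 (hcomm.pow_left 4)⟩

/-- The scalar fixes nothing but the centre. -/
theorem fpf {j : H} (hj : j ∈ W.F.J) (hc : Commute W.y j) : j = 1 ∨ j = W.z := by
  refine W.F.vc_zero j hj (omC_free (W.F.vc_lt j) ?_)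
  rw [← W.y_code, ← W.act W.y hj, hc.eq, mul_inv_cancel_right]

theorem three_unique {q q' : H} (hq : q ^ 3 = 1) (hq' : q' ^ 3 = 1) (hk : W.F.κ q = W.F.κ q')
    (h : Commute W.y q) (h' : Commute W.y q') : q = q' := by
  rcases W.fpf ((W.eq_iff q q').1 hk) (h.inv_right.mul_right h') with e | e
  · exact inv_mul_eq_one.1 e
  · exfalso
    rw [inv_mul_eq_iff_eq_mul] at e
    rw [e, (W.central q).mul_pow, hq, one_mul, W.z_pow3] at hq'
    exact W.F.ext.z1 hq'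

/-- An element of order three centralises the lifts of the vectors it fixes. -/
theorem comm_of_fix {q j : H} (hq : q ^ 3 = 1) (hj : j ∈ W.F.J) (h : ap (W.F.κ q) (W.F.vc j) = W.F.vc j) :
    Commute q j := by
  rcases W.F.vc_eq hj (W.norm q hj) ((W.act q hj).trans h).symm with e | e
  · exact mul_inv_eq_iff_eq_mul.1 e
  · exfalso
    have hs : ∀ a, q * (a * W.z) * q⁻¹ = q * a * q⁻¹ * W.z := fun a => by
      calc q * (a * W.z) * q⁻¹ = q * a * (W.z * q⁻¹) := by group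
        _ = q * a * q⁻¹ * W.z := by rw [← (W.central q⁻¹).eq, ← mul_assoc]
    have e3 : q ^ 3 * j * (q ^ 3)⁻¹ = j * W.z := by
      calc q ^ 3 * j * (q ^ 3)⁻¹ = q * (q * (q * j * q⁻¹) * q⁻¹) * q⁻¹ := by simp [pow_succ, mul_assoc]
        _ = j * (W.z * W.z) * W.z := by rw [e, hs, e, hs, hs, e]; group
        _ = j * W.z := by rw [W.F.ext.z2, mul_one]
    rw [hq, one_mul, inv_one, mul_one] at e3
    exact W.F.ext.z1 (mul_eq_left.1 e3.symm)

theorem lt256 {i : ℕ} (hi : i < 8) : (2 : ℕ) ^ i < 256 :=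
  lt_of_lt_of_le (Nat.pow_lt_pow_right (by norm_num) hi) le_rfl

/-- The elements commuting with the scalar. -/
def M : Subgroup H where
  carrier := {h | cm (W.F.κ h) omC = cm omC (W.F.κ h)}
  one_mem' := by
    show cm (W.F.κ 1) omC = cm omC (W.F.κ 1)
    rw [W.F.κ_one, idc_cm (by decide +kernel), cm_idc (by decide +kernel)]
  mul_mem' := fun {a b} ha hb => by
    show cm (W.F.κ (a * b)) omC = cm omC (W.F.κ (a * b))
    rw [W.mul, cm_assoc, hb, ← cm_assoc, ha, cm_assoc]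
  inv_mem' := fun {a} ha => by
    show cm (W.F.κ a⁻¹) omC = cm omC (W.F.κ a⁻¹)
    have ha' : cm (W.F.κ a) omC = cm omC (W.F.κ a) := ha
    calc cm (W.F.κ a⁻¹) omC = cm (cm (W.F.κ a⁻¹) omC) (cm (W.F.κ a) (W.F.κ a⁻¹)) := by
          rw [W.inv₁, cm_idc (cm_lt _ _)]
      _ = cm (cm (W.F.κ a⁻¹) (cm (W.F.κ a) omC)) (W.F.κ a⁻¹) := by rw [ha']; simp only [cm_assoc]
      _ = cm omC (W.F.κ a⁻¹) := by
          rw [← cm_assoc (W.F.κ a⁻¹), W.inv₂, idc_cm (show omC < 2 ^ 64 by decide +kernel)]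

theorem mem_M {h : H} : h ∈ W.M ↔ cm (W.F.κ h) omC = cm omC (W.F.κ h) := Iff.rfl

theorem I_le_M : W.I ≤ W.M := fun _ hh => W.comm_omega hh

theorem e_mem : W.e ∈ W.M := by rw [mem_M, W.e_code]; exact code_facts.2.2.2.2.2.2.1

theorem e_pow3 {h : H} : h * W.e ^ 3 = h := by rw [W.e3, mul_one]

/-- The reflection normalises the inner half. -/
theorem e_norm {h : H} (hh : h ∈ W.I) : W.e * h * W.e⁻¹ ∈ W.I := by
  obtain ⟨w, hw, he⟩ := W.word hh
  obtain ⟨hn4, hn⟩ := norm_ok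
  simp only [List.all_eq_true, Nat.blt_eq] at hn4
  have hstep : ∀ w : List ℕ, (∀ i ∈ w, i < 4) →
      ∃ c, WordCode gensU c ∧ cm reflC (cw gensU w) = cm c reflC := by
    intro w
    induction w with
    | nil => exact fun _ => ⟨idc, wordCode_idc _, by
        rw [cw_nil, cm_idc code_facts.2.2.2.2.2.1, idc_cm code_facts.2.2.2.2.2.1]⟩
    | cons a w ih =>
      intro hw
      obtain ⟨c, hc, hce⟩ := ih fun b hb => hw b (List.mem_cons_of_mem _ hb)
      have ha := hw a List.mem_cons_self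
      refine ⟨cm (cw gensU (normW.getD a [])) c, WordCode.mul ⟨_, fun j hj => ?_, rfl⟩ hc, ?_⟩
      · by_cases hlt : a < normW.length
        · rw [List.getD_eq_getElem _ _ hlt] at hj
          exact hn4 _ (List.getElem_mem hlt) j hj
        · rw [List.getD_eq_default _ _ (not_lt.1 hlt)] at hj; simp at hj
      · rw [cw_cons, ← cm_assoc, hn a ha, cm_assoc, hce, ← cm_assoc]
  obtain ⟨c, hc, hce⟩ := hstep w hw
  refine W.mem_I.2 ?_
  have hlt : c < 2 ^ 64 := by obtain ⟨v, -, rfl⟩ := hc; exact cw_lt _ _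
  rwa [W.conj_code hlt (by rw [W.e_code, he]; exact hce)]

/-- A step in the chain of point stabilisers. -/
theorem chain_step {T : List (List ℕ)} {fs os : List ℕ} {target : ℕ} (hT : chainChk T fs os target = true)
    (ht : target < 256) (hq : qU target = 1) (hfs : ∀ f ∈ fs, f < 256)
    (hos : ∀ f ∈ os, f < 256 ∧ cform cfgU target f = 0) {u : H} (hu : u ∈ W.M)
    (hfix : ∀ f ∈ fs, ap (W.F.κ u) f = f) (hfix' : ∀ f ∈ os, ap (W.F.κ u) f = f) :
    ∃ k ∈ W.I, k * u ∈ W.M ∧ ap (W.F.κ (k * u)) target = target ∧ ∀ f ∈ fs, ap (W.F.κ (k * u)) f = f := by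
  simp only [chainChk, Bool.and_eq_true, List.all_eq_true, List.any_eq_true, Bool.or_eq_true, Nat.blt_eq,
    nbeq_iff, vecs, List.mem_range, Bool.not_eq_true', Bool.eq_false_iff, Ne] at hT
  have hnot : qU (ap (W.F.κ u) target) = 1 ∧
      ∀ f ∈ os, cform cfgU (ap (W.F.κ u) target) f = 0 := by
    refine ⟨(W.F.q_inv (W.central u) ht).trans hq, fun f hf => ?_⟩
    conv_lhs => rw [← hfix' f hf]
    rw [W.form u ht (hos f hf).1]
    exact (hos f hf).2
  rcases hT.2 _ (ap_lt (W.F.κ u) target) with e | ⟨w, hw, e⟩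
  · exact absurd hnot e
  obtain ⟨k, hk, hke⟩ := W.lift w (hT.1 w hw).1
  refine ⟨k, hk, mul_mem (W.I_le_M hk) hu, ?_, fun f hf => ?_⟩
  · rw [W.mul, ap_cm, hke, ap_word w (ap_lt _ _)]; exact e
  · rw [W.mul, ap_cm, hfix f hf, hke, ap_word w (hfs f hf)]
    exact (hT.1 w hw).2 f hf

theorem fix_omega {u : H} (hu : u ∈ W.M) {v : ℕ} (h : ap (W.F.κ u) v = v) :
    ap (W.F.κ u) (ap omC v) = ap omC v := by
  rw [← ap_cm, W.mem_M.1 hu, ap_cm, h]

/-- The commuting half is the inner half extended by the reflection. -/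
theorem M_cosets {h : H} (hh : h ∈ W.M) : ∃ i ∈ W.I, ∃ a : ℕ, h = i * W.e ^ a := by
  have o1 : ap omC 1 = 2 ∧ ap omC 4 = 8 ∧ ap omC 16 = 32 ∧ ap omC 64 = 128 := by decide +kernel
  have d1 : cform cfgU 4 1 = 0 ∧ cform cfgU 4 2 = 0 ∧ cform cfgU 16 1 = 0 ∧ cform cfgU 16 2 = 0 ∧
      cform cfgU 16 4 = 0 ∧ cform cfgU 16 8 = 0 ∧ qU 1 = 1 ∧ qU 4 = 1 ∧ qU 16 = 1 := by decide +kernel
  obtain ⟨b1, b2, b3, b4, b5, b6, q1, q4, q16⟩ := d1
  obtain ⟨k1, hk1, hu1, f1, -⟩ := W.chain_step chainA_ok (by norm_num) q1 (by simp) (by simp) hh (by simp) (by simp)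
  have f2 := o1.1 ▸ W.fix_omega hu1 f1
  obtain ⟨k2, hk2, hu2, f4, hf2⟩ := W.chain_step chainB_ok (by norm_num) q4 (by simp) (by simp [b1, b2]) hu1
    (by simp [f1]) (by simp [f1, f2])
  have g1 : ap (W.F.κ (k2 * (k1 * h))) 1 = 1 := hf2 1 (by simp)
  have g2 := o1.1 ▸ W.fix_omega hu2 g1
  have g8 := o1.2.1 ▸ W.fix_omega hu2 f4
  obtain ⟨k3, hk3, hu3, f16, hf3⟩ := W.chain_step chainC_ok (by norm_num) q16 (by simp) (by simp [b3, b4, b5, b6])
    hu2 (by simp [g1, f4]) (by simp [g1, g2, f4, g8])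
  obtain ⟨u, hu⟩ : ∃ u, u = k3 * (k2 * (k1 * h)) := ⟨_, rfl⟩
  rw [← hu] at hu3 f16 hf3
  have i1 : ap (W.F.κ u) 1 = 1 := hf3 1 (by simp)
  have i4 : ap (W.F.κ u) 4 = 4 := hf3 4 (by simp)
  have i2 := o1.1 ▸ W.fix_omega hu3 i1
  have i8 := o1.2.1 ▸ W.fix_omega hu3 i4
  have i32 := o1.2.2.1 ▸ W.fix_omega hu3 f16
  obtain ⟨v, hv⟩ : ∃ v, v = ap (W.F.κ u) 64 := ⟨_, rfl⟩
  have i128 : ap (W.F.κ u) 128 = ap omC v := by
    rw [hv, ← o1.2.2.2, ← ap_cm, W.mem_M.1 hu3, ap_cm]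
  have hr := rest_ok
  simp only [List.all_eq_true, Bool.or_eq_true, List.any_eq_true, vecs, List.mem_range, Bool.not_eq_true',
    Bool.eq_false_iff, Ne, Bool.and_eq_true, nbeq_iff] at hr
  obtain ⟨c, hc, hce⟩ := (hr v (hv ▸ ap_lt _ _)).resolve_left (fun h0 => h0 ⟨by
    rw [hv]; exact (W.F.q_inv (W.central u) (by norm_num : (64 : ℕ) < 256)).trans (by decide), fun f hf => by
    have hff : ap (W.F.κ u) f = f ∧ f < 256 ∧ cform cfgU 64 f = 0 := by
      simp only [List.mem_cons, List.not_mem_nil, or_false] at hf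
      rcases hf with rfl | rfl | rfl | rfl | rfl | rfl
      exacts [⟨i1, by decide⟩, ⟨i2, by decide⟩, ⟨i4, by decide⟩, ⟨i8, by decide⟩, ⟨f16, by decide⟩,
        ⟨i32, by decide⟩]
    conv_lhs => rw [hv, ← hff.1]
    rw [W.form u (by norm_num) hff.2.1]
    exact hff.2.2⟩)
  have hκu : W.F.κ u = c := by
    rw [← hce, ← mkc_byte (W.F.κ_lt u)]
    refine mkc_congr fun i hi => ?_
    rw [← ap_pow hi]
    interval_cases i
    exacts [i1, i2, i4, i8, f16, i32, hv.symm, i128]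
  obtain ⟨a, ha⟩ : ∃ a : ℕ, W.F.κ u = W.F.κ (W.e ^ a) := by
    simp only [List.mem_cons, List.not_mem_nil, or_false] at hc
    rcases hc with rfl | rfl | rfl
    exacts [⟨0, by rw [hκu, pow_zero, W.F.κ_one]⟩, ⟨1, by rw [hκu, pow_one, W.e_code]⟩,
      ⟨2, by rw [hκu, pow_two, W.mul, W.e_code]⟩]
  have hd : u * (W.e ^ a)⁻¹ ∈ W.I := by
    have := W.norm (W.e ^ a) ((W.eq_iff _ _).1 ha.symm)
    rw [show W.e ^ a * ((W.e ^ a)⁻¹ * u) * (W.e ^ a)⁻¹ = u * (W.e ^ a)⁻¹ by group] at this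
    exact W.hJI this
  refine ⟨k1⁻¹ * k2⁻¹ * k3⁻¹ * (u * (W.e ^ a)⁻¹),
    mul_mem (mul_mem (mul_mem (inv_mem hk1) (inv_mem hk2)) (inv_mem hk3)) hd, a, ?_⟩
  rw [hu]; group

/-- Involutions modulo the extraspecial group in the commuting half are inner. -/
theorem inner_of_sq {u : H} (hu : u ∈ W.M) (h2 : u * u ∈ W.I) : u ∈ W.I := by
  obtain ⟨i, hi, a, rfl⟩ := W.M_cosets hu
  have hconj : ∀ n : ℕ, ∀ h ∈ W.I, W.e ^ n * h * (W.e ^ n)⁻¹ ∈ W.I := by
    intro n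
    induction n with
    | zero => intro h hh; simpa using hh
    | succ n ih =>
      intro h hh
      have := W.e_norm (ih h hh)
      rwa [show W.e ^ (n + 1) * h * (W.e ^ (n + 1))⁻¹ = W.e * (W.e ^ n * h * (W.e ^ n)⁻¹) * W.e⁻¹ by
        rw [pow_succ']; group]
  have hee : W.e ^ a * W.e ^ a ∈ W.I := by
    have h1 := mul_mem (inv_mem (mul_mem hi (hconj a i hi))) h2
    rwa [show (i * (W.e ^ a * i * (W.e ^ a)⁻¹))⁻¹ * (i * W.e ^ a * (i * W.e ^ a)) = W.e ^ a * W.e ^ a by group]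
      at h1
  have h4 := mul_mem hee hee
  rw [← pow_add, ← pow_add, show a + a + (a + a) = a + 3 * a by ring, pow_add, pow_mul, W.e3, one_pow, mul_one] at h4
  exact mul_mem hi h4

/-- Modulo the extraspecial group every inner involution is a listed one up to conjugacy. -/
theorem invol_kind {u : H} (hu : u ∈ W.I) (h2 : cm (W.F.κ u) (W.F.κ u) = idc) :
    ∃ g ∈ W.I, W.F.κ (g * u * g⁻¹) ∈ kindL ∧
      (W.F.κ u ≠ idc → W.F.κ u ∈ invL cfgU) := by
  by_cases h1 : W.F.κ u = idc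
  · exact ⟨1, one_mem _, by rw [one_mul, inv_one, mul_one, h1]; exact List.mem_cons_self, fun h => absurd h1 h⟩
  let FK := W.F.restrict W.I W.hJI fun i hi => by
    obtain ⟨g, hg, he⟩ := W.gens i hi
    exact ⟨g, hg, W.central g, he⟩
  have hc : Nat.card ↥(Subgroup.centralizer ({(⟨W.z, W.hJI W.F.ext.zJ⟩ : W.I)} : Set W.I)) = 512 * 25920 := by
    rw [card_centralizer_sub, inf_eq_left.2 fun x _ => Subgroup.mem_centralizer_singleton_iff.2 (W.central x).eq,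
      W.cardI]
  have hz : Commute (⟨u, hu⟩ : W.I) ⟨W.z, W.hJI W.F.ext.zJ⟩ := Subtype.ext (W.central u).eq
  obtain ⟨k, hk, g, hg, he⟩ := FK.invol_class hc hz h2 h1
  refine ⟨g, g.2, ?_, fun _ => ?_⟩
  · have he' : W.F.κ ((g : H) * u * (g : H)⁻¹) = xC gensU k := he
    rw [he']
    interval_cases k <;> simp [kindL]
  · have := (FK.cover hc hk ((hg.mul_left hz).mul_left hg.inv_left) he hg.inv_left).1
    rw [show g⁻¹ * (g * ⟨u, hu⟩ * g⁻¹) * g⁻¹⁻¹ = ⟨u, hu⟩ by group] at this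
    simp only [invL, List.mem_append]
    interval_cases k
    exacts [Or.inl this, Or.inr this]

end Tw

end Cfsg.Lib.U6ThreeEnd
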