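import Cfsg.Agent.Lib.U62Core.Weak
import Cfsg.Agent.Lib.U6ThreeEnd.TwistInvol

/-!
# No second extraspecial group of the same kind in the normaliser
-/

set_option autoImplicit false
set_option linter.unusedSectionVars false

namespace Cfsg.Lib.U6ThreeEnd

open Cfsg.Lib.U62Type Cfsg.Lib.U62Core

namespace Tw

variable {H : Type*} [Group H] [Finite H] (W : Tw H)

/-- What a second extraspecial subgroup with the same centre satisfies. -/
structure Copy (R : Subgroup H) : Prop where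
  zR : W.z ∈ R
  card : Nat.card R = 512
  sq : ∀ a ∈ R, a * a = 1 ∨ a * a = W.z
  cmt : ∀ a ∈ R, ∀ b ∈ R, a * b * a⁻¹ * b⁻¹ = 1 ∨ a * b * a⁻¹ * b⁻¹ = W.z
  zc : ∀ a ∈ R, (∀ b ∈ R, Commute a b) → a = 1 ∨ a = W.z

variable {W} {R : Subgroup H} (hR : W.Copy R)
include hR

theorem Copy.conj (g : H) : W.Copy (R.map (MulAut.conj g).toMonoidHom) := by
  have hz : g * W.z * g⁻¹ = W.z := by rw [(W.central g).eq, mul_inv_cancel_right]
  have hlift : ∀ {c : H}, c = 1 ∨ c = W.z → MulAut.conj g c = 1 ∨ MulAut.conj g c = W.z := fun {c} hc =>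
    hc.imp (fun e => by rw [e, map_one]) fun e => by rw [e, MulAut.conj_apply]; exact hz
  refine ⟨⟨W.z, hR.zR, hz⟩, ?_, ?_, ?_, ?_⟩
  · rw [Subgroup.card_map_of_injective (MulAut.conj g).injective, hR.card]
  · rintro _ ⟨a, ha, rfl⟩
    rw [MulEquiv.coe_toMonoidHom, ← map_mul]
    exact hlift (hR.sq a ha)
  · rintro _ ⟨a, ha, rfl⟩ _ ⟨b, hb, rfl⟩
    rw [MulEquiv.coe_toMonoidHom, ← map_inv, ← map_inv, ← map_mul, ← map_mul, ← map_mul]
    exact hlift (hR.cmt a ha b hb)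
  · rintro _ ⟨a, ha, rfl⟩ h
    refine hlift (hR.zc a ha fun b hb => ?_)
    have h1 := h (g * b * g⁻¹) ⟨b, hb, rfl⟩
    exact (Commute.conj_iff g).1 h1

theorem Copy.κ_sq {u : H} (hu : u ∈ R) : cm (W.F.κ u) (W.F.κ u) = idc := by
  rw [← W.mul]
  rcases hR.sq u hu with e | e <;> rw [e]
  exacts [W.F.κ_one, W.F.κ_mem W.F.ext.zJ]

theorem Copy.fix {u j : H} (hu : u ∈ R) (hj : j ∈ W.F.J) (hjR : j ∈ R) :
    ap (W.F.κ u) (W.F.vc j) = W.F.vc j := by
  rw [← W.act u hj]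
  rcases hR.cmt u hu j hjR with e | e
  · rw [mul_inv_eq_one.1 e]
  · rw [mul_inv_eq_iff_eq_mul.1 e, W.F.vc_mul _ W.F.ext.zJ _ hj, W.F.vc_z, Nat.zero_xor]

theorem Copy.inner {u : H} (hu : u ∈ R) (hM : u ∈ W.M) : u ∈ W.I := by
  refine W.inner_of_sq hM ?_
  rcases hR.sq u hu with e | e <;> rw [e]
  exacts [one_mem _, W.hJI W.F.ext.zJ]

/-- The codes in the inner part and the vectors of the common part. -/
theorem Copy.data : ∃ S D : Finset ℕ, CodeSet S ∧ (∀ c, c ∈ S ↔ ∃ u ∈ R ⊓ W.M, W.F.κ u = c) ∧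
    Nat.card ↥(R ⊓ W.M) = Nat.card ↥(W.F.J ⊓ R) * S.card ∧
    (∀ v, v ∈ D ↔ ∃ j ∈ W.F.J ⊓ R, W.F.vc j = v) ∧ Nat.card ↥(W.F.J ⊓ R) ≤ 2 * D.card := by
  classical
  let L := R ⊓ W.M
  let : Fintype L := Fintype.ofFinite _
  let : Fintype ↥(W.F.J ⊓ R) := Fintype.ofFinite _
  refine ⟨Finset.univ.image fun u : L => W.F.κ u, Finset.univ.image fun j : ↥(W.F.J ⊓ R) => W.F.vc j, ?_,
    fun c => by simp [L, and_assoc], ?_, fun v => by simp [and_assoc], ?_⟩
  · have hmem : ∀ c, c ∈ (Finset.univ.image fun u : L => W.F.κ u) ↔ ∃ u ∈ L, W.F.κ u = c := fun c => by simp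
    refine ⟨(hmem _).2 ⟨1, one_mem _, W.F.κ_one⟩, ?_, ?_, ?_, ?_, ?_⟩ <;> intro a ha <;>
      obtain ⟨u, hu, rfl⟩ := (hmem a).1 ha
    · intro b hb
      obtain ⟨w, hw, rfl⟩ := (hmem b).1 hb
      exact (hmem _).2 ⟨u * w, mul_mem hu hw, W.mul u w⟩
    · exact hR.κ_sq hu.1
    · intro b hb
      obtain ⟨w, hw, rfl⟩ := (hmem b).1 hb
      rw [← W.mul, ← W.mul]
      rcases hR.cmt u hu.1 w hw.1 with e | e
      · congr 1
        calc u * w = (u * w * u⁻¹ * w⁻¹) * (w * u) := by group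
          _ = w * u := by rw [e, one_mul]
      · rw [show u * w = W.z * (w * u) by rw [← e]; group, W.F.κ_Jmul (W.central _) W.F.ext.zJ]
    · intro hne
      obtain ⟨g, -, -, h⟩ := W.invol_kind (hR.inner hu.1 hu.2) (hR.κ_sq hu.1)
      exact h hne
    · exact W.F.κ_lt u
  · have hm : ∀ c : ↥(Finset.univ.image fun u : L => W.F.κ u), ∃ u : L, W.F.κ u = c.1 := fun c => by
      obtain ⟨u, -, hu⟩ := Finset.mem_image.1 c.2
      exact ⟨u, hu⟩
    choose f hf using hm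
    rw [← Nat.card_eq_finsetCard, ← Nat.card_prod]
    symm
    refine Nat.card_eq_of_bijective
      (fun p : ↥(W.F.J ⊓ R) × ↥(Finset.univ.image fun u : L => W.F.κ u) =>
        (⟨(f p.2 : H) * p.1, mul_mem (f p.2).2.1 p.1.2.2, mul_mem (f p.2).2.2 (W.I_le_M (W.hJI p.1.2.1))⟩ : L))
      ⟨fun p q e => ?_, fun u => ?_⟩
    · have e' : (f p.2 : H) * p.1 = f q.2 * q.1 := congrArg Subtype.val e
      have h1 := congrArg W.F.κ e'
      rw [W.F.κ_mulJ (W.central _) p.1.2.1, W.F.κ_mulJ (W.central _) q.1.2.1, hf, hf] at h1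
      have h2 : p.2 = q.2 := Subtype.ext h1
      rw [h2] at e'
      exact Prod.ext (Subtype.ext (mul_left_cancel e')) h2
    · let c : ↥(Finset.univ.image fun u : L => W.F.κ u) :=
        ⟨W.F.κ u, Finset.mem_image.2 ⟨u, Finset.mem_univ _, rfl⟩⟩
      exact ⟨⟨⟨(f c : H)⁻¹ * u, (W.eq_iff _ _).1 (hf c), R.mul_mem (R.inv_mem (f c).2.1) u.2.1⟩, c⟩,
        Subtype.ext (mul_inv_cancel_left _ _)⟩
  · rw [Nat.card_eq_fintype_card, ← Finset.card_univ]
    refine Finset.card_le_mul_card_image _ _ fun v _ => ?_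
    by_cases h : ∃ j : ↥(W.F.J ⊓ R), W.F.vc j = v
    · obtain ⟨j, rfl⟩ := h
      refine (Finset.card_le_card (t := {j, j * ⟨W.z, W.F.ext.zJ, hR.zR⟩}) fun k hk => ?_).trans Finset.card_le_two
      rw [Finset.mem_filter] at hk
      rw [Finset.mem_insert, Finset.mem_singleton]
      exact (W.F.vc_eq j.2.1 k.2.1 hk.2.symm).imp (fun e => Subtype.ext e) fun e => Subtype.ext e
    · rw [Finset.filter_false_of_mem fun k _ hk => h ⟨k, hk⟩, Finset.card_empty]
      exact Nat.zero_le _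

theorem Copy.card_le_inner : 256 ≤ Nat.card ↥(R ⊓ W.M) := by
  have h1 := Subgroup.card_mul_index (W.M.subgroupOf R)
  have h3 : Nat.card (W.M.subgroupOf R) = Nat.card ↥(R ⊓ W.M) :=
    Nat.card_congr ⟨fun x => ⟨x.1.1, x.1.2, x.2⟩, fun x => ⟨⟨x.1, x.2.1⟩, x.2.2⟩, fun _ => rfl, fun _ => rfl⟩
  have h2 : (W.M.subgroupOf R).index ≤ 2 := by
    by_cases hall : ∀ u ∈ R, u ∈ W.M
    · rw [Subgroup.index_eq_one.2 (Subgroup.subgroupOf_eq_top.2 hall)]; norm_num
    push Not at hall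
    obtain ⟨s, hs, hsM⟩ := hall
    refine le_of_eq (Subgroup.index_eq_two_iff.2 ⟨⟨s, hs⟩, fun b => ?_⟩)
    have hmix : ∀ x, x ∉ W.M → ∀ y, y ∉ W.M → x * y ∈ W.M := fun x hx y hy => by
      rw [W.mem_M] at hx hy
      have hx' := (W.semilinear x).resolve_left hx
      have hy' := (W.semilinear y).resolve_left hy
      have ho4 : cm (cm omC omC) (cm omC omC) = omC := by decide +kernel
      rw [W.mem_M, W.mul, cm_assoc, hy', ← cm_assoc (W.F.κ x), ← cm_assoc (W.F.κ x) omC omC, hx',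
        cm_assoc (cm omC omC), hx', ← cm_assoc (cm omC omC), ho4, cm_assoc]
    simp only [Subgroup.mem_subgroupOf, Subgroup.coe_mul]
    by_cases hb : (b : H) ∈ W.M
    · exact Or.inr ⟨hb, fun e => hsM (by simpa using mul_mem (inv_mem hb) e)⟩
    · exact Or.inl ⟨hmix _ hb _ hsM, hb⟩
  rw [h3, hR.card] at h1
  nlinarith

omit hR in
theorem fxs_card {c : ℕ} {D : Finset ℕ} (h : ∀ v ∈ D, v ∈ fxs c) : D.card ≤ (fxs c).length :=
  (Finset.card_le_card fun v hv => List.mem_toFinset.2 (h v hv)).trans (List.toFinset_card_le _)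

/-- An element outside the commuting half leaves few of the vectors of an invariant set. -/
theorem Copy.outer_le {c : H} (hc : c ∈ R) (hcM : c ∉ W.M) {D : Finset ℕ}
    (hD : ∀ v, v ∈ D ↔ ∃ j ∈ W.F.J ⊓ R, W.F.vc j = v) (S : Finset ℕ) (hsub : D ⊆ S) (hlt : ∀ v ∈ S, v < 256)
    (hom : ∀ v ∈ S, ap omC v ∈ S) (hadd : ∀ u ∈ S, ∀ v ∈ S, u ^^^ v ∈ S) : D.card * D.card ≤ S.card := by
  classical
  refine le_trans ?_ (outer_fix_sq ((W.semilinear c).resolve_left hcM) S hlt hom hadd)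
  have : D ⊆ S.filter fun v => ap (W.F.κ c) v = v := fun v hv => by
    obtain ⟨j, hj, rfl⟩ := (hD v).1 hv
    exact Finset.mem_filter.2 ⟨hsub hv, hR.fix hc hj.1 hj.2⟩
  exact Nat.mul_le_mul (Finset.card_le_card this) (Finset.card_le_card this)

theorem Copy.exists_thin (hne : R ≠ W.F.J) : ∃ u ∈ R ⊓ W.M, W.F.κ u ∈ clU1 := by
  classical
  obtain ⟨S, D, hS, hmem, hL, hD, hJD⟩ := hR.data
  have h256 := hR.card_le_inner
  suffices h3 : 3 ≤ S.card by
    obtain ⟨c, hc, hc1⟩ := hS.exists_thin h3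
    obtain ⟨u, hu, rfl⟩ := (hmem c).1 hc
    exact ⟨u, hu, hc1⟩
  by_cases hout : ∀ u ∈ R, u ∈ W.M
  · obtain ⟨u, hu, huJ⟩ : ∃ u ∈ R, u ∉ W.F.J := by
      by_contra hall
      push Not at hall
      exact hne (Subgroup.eq_of_le_of_card_ge hall (by rw [hR.card, W.F.ext.card]))
    have hne1 : W.F.κ u ≠ idc := fun e => huJ (W.F.ker u (W.central u) e)
    have hin := hS.inv _ ((hmem _).2 ⟨u, ⟨hu, hout u hu⟩, rfl⟩) hne1
    have h64 : D.card ≤ 64 := by
      refine (fxs_card (c := W.F.κ u) fun v hv => ?_).trans ?_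
      · obtain ⟨j, hj, rfl⟩ := (hD v).1 hv
        exact mem_fxs.2 ⟨W.F.vc_lt j, hR.fix hu hj.1 hj.2⟩
      · have hr := root_fix
        have ht := thin_fix
        simp only [List.all_eq_true, nbeq_iff] at hr ht
        rcases List.mem_append.1 hin with e | e
        · rw [hr _ e]
        · rw [ht _ e]; norm_num
    have : R ⊓ W.M = R := inf_eq_left.2 hout
    rw [this, hR.card] at hL
    nlinarith
  · push Not at hout
    obtain ⟨c, hc, hcM⟩ := hout
    have := hR.outer_le hc hcM hD (Finset.range 256) (fun v hv => by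
      obtain ⟨j, -, rfl⟩ := (hD v).1 hv
      exact Finset.mem_range.2 (W.F.vc_lt j)) (fun v hv => Finset.mem_range.1 hv)
      (fun v _ => Finset.mem_range.2 (ap_lt _ _))
      (fun u hu v hv => Finset.mem_range.2 (xor_lt (Finset.mem_range.1 hu) (Finset.mem_range.1 hv)))
    rw [Finset.card_range] at this
    have h16 : D.card ≤ 16 := by by_contra hlt; nlinarith
    nlinarith

omit hR in
theorem line_closed : (∀ v ∈ l1L.toFinset, v < 256) ∧ (∀ v ∈ l1L.toFinset, ap omC v ∈ l1L.toFinset) ∧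
    (∀ u ∈ l1L.toFinset, ∀ v ∈ l1L.toFinset, u ^^^ v ∈ l1L.toFinset) ∧ l1L.toFinset.card ≤ 16 := by
  refine ⟨fun v hv => (mem_l1.1 (List.mem_toFinset.1 hv)).1, fun v hv => ?_, fun u hu v hv => ?_,
    (List.toFinset_card_le _).trans_eq lists_len.2.1⟩
  · rw [List.mem_toFinset, mem_l1] at hv ⊢
    exact ⟨ap_lt _ _, omC_mem_fix (omega_comm l1_word) hv.2⟩
  · rw [List.mem_toFinset, mem_l1] at hu hv ⊢
    exact ⟨xor_lt hu.1 hv.1, by rw [ap_xor, hu.2, hv.2]⟩

/-- With the listed thin code the common part would be central. -/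
theorem Copy.false_of_listed {u : H} (hu : u ∈ R ⊓ W.M) (hue : W.F.κ u = xC gensU 1) : False := by
  classical
  obtain ⟨S, D, hS, hmem, hL, hD, hJD⟩ := hR.data
  have hx : xC gensU 1 ∈ S := (hmem _).2 ⟨u, hu, hue⟩
  obtain ⟨hlt, hom, hadd, h16⟩ := line_closed
  have hDl : D ⊆ l1L.toFinset := fun v hv => by
    obtain ⟨j, hj, rfl⟩ := (hD v).1 hv
    exact List.mem_toFinset.2 (mem_l1.2 ⟨W.F.vc_lt j, hue ▸ hR.fix hu.1 hj.1 hj.2⟩)
  have hS16 : ((idc :: q1L).toFinset).card ≤ 16 := (List.toFinset_card_le _).trans (by simp [lists_len.1])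
  have hall : ∀ c ∈ R, c ∈ W.M := by
    by_contra hout
    push Not at hout
    obtain ⟨c, hc, hcM⟩ := hout
    have h1 := (hR.outer_le hc hcM hD _ hDl hlt hom hadd).trans h16
    have h4 : D.card ≤ 4 := by by_contra hlt'; nlinarith
    have h256 := hR.card_le_inner
    have := hS.big hx (by nlinarith)
    rw [this] at hL
    nlinarith
  have hRM : R ⊓ W.M = R := inf_eq_left.2 hall
  rw [hRM, hR.card] at hL
  have hD16 := (Finset.card_le_card hDl).trans h16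
  have hbig := hS.big hx (by nlinarith)
  rw [hbig] at hL
  have hDeq : D = l1L.toFinset := Finset.eq_of_subset_of_card_le hDl (h16.trans (by nlinarith))
  have hpart : ∀ a, a ∈ W.F.J → W.F.vc a ∈ l1L → a ∈ R := by
    intro a ha hav
    obtain ⟨j, hj, hje⟩ := (hD (W.F.vc a)).1 (hDeq ▸ List.mem_toFinset.2 hav)
    rcases W.F.vc_eq hj.1 ha hje with e | e <;> rw [e]
    exacts [hj.2, mul_mem hj.2 hR.zR]
  have hvc : ∀ a ∈ W.F.J ⊓ R, W.F.vc a ∈ l1L := fun a ha => by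
    have := hDl ((hD _).2 ⟨a, ha, rfl⟩)
    exact List.mem_toFinset.1 this
  have hab : ∀ a ∈ W.F.J ⊓ R, ∀ b ∈ W.F.J ⊓ R, Commute a b := fun a ha b hb => by
    have h := line_isotropic
    simp only [List.all_eq_true, nbeq_iff] at h
    exact (W.F.comm_iff ha.1 hb.1).2 (h _ (hvc a ha) _ (hvc b hb))
  -- thin elements centralise the common part
  have hthin : ∀ w ∈ R, W.F.κ w ∈ q1L → W.F.κ w ∈ clU1 → ∀ a ∈ W.F.J ⊓ R, Commute w a := by
    intro w hw hwq hwc a ha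
    have hsq := hR.κ_sq hw
    obtain ⟨b, hb, hka⟩ := W.exists_lift_comm W.y3 (h := w) (by rw [W.y_code]; exact hall w hw)
    obtain ⟨k, hk⟩ : ∃ k, k = b * w := ⟨_, rfl⟩
    rw [← hk] at hka
    have hκk : W.F.κ k = W.F.κ w := by rw [hk, W.F.κ_Jmul (W.central w) hb]
    have hkk : k * k ∈ W.F.J := W.F.ker _ (W.central _) (by rw [W.mul, hκk, hsq])
    have hkk0 : W.F.vc (k * k) = 0 := by
      rcases W.fpf hkk (hka.symm.mul_right hka.symm) with e | e <;> rw [e]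
      exacts [W.F.vc_one, W.F.vc_z]
    obtain ⟨j, hj⟩ : ∃ j, j = k⁻¹ * w := ⟨_, rfl⟩
    have hjJ : j ∈ W.F.J := hj ▸ (W.eq_iff k w).1 hκk
    have hww : W.F.vc (w * w) = 0 := by
      rcases hR.sq w hw with e | e <;> rw [e]
      exacts [W.F.vc_one, W.F.vc_z]
    have hwwJ : w * w ∈ W.F.J := W.F.ker _ (W.central _) (by rw [W.mul, hsq])
    have hjv : W.F.vc j ∈ l1L := by
      have hl := line_thin
      simp only [List.all_eq_true, Bool.or_eq_true, Bool.not_eq_true', Bool.eq_false_iff, Ne, memB_iff,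
        beq_iff_eq] at hl
      rw [← (hl _ hwq).resolve_left (fun h => h hwc)]
      refine mem_fxs.2 ⟨W.F.vc_lt j, ?_⟩
      rw [← hκk, ← W.act k hjJ, show k * j * k⁻¹ = w * w * j⁻¹ * (k * k)⁻¹ by rw [hj]; group,
        W.F.vc_mul _ (mul_mem hwwJ (inv_mem hjJ)) _ (inv_mem hkk), W.F.vc_inv hkk, hkk0, Nat.xor_zero,
        W.F.vc_mul _ hwwJ _ (inv_mem hjJ), hww, W.F.vc_inv hjJ, Nat.zero_xor]
    have hjR : j ∈ W.F.J ⊓ R := ⟨hjJ, hpart j hjJ hjv⟩
    have hkR : k ∈ R := by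
      have := mul_mem hw (inv_mem hjR.2)
      rwa [hj, show w * (k⁻¹ * w)⁻¹ = k by group] at this
    have hkcomm : ∀ a ∈ W.F.J ⊓ R, Commute k a := by
      intro a ha
      by_contra hno
      have hstep : ∀ x ∈ W.F.J ⊓ R, W.y * x * W.y⁻¹ ∈ W.F.J ⊓ R ∧
          (Commute k x ↔ Commute k (W.y * x * W.y⁻¹)) := by
        intro x hx'
        have hyx := W.norm W.y hx'.1
        refine ⟨⟨hyx, hpart _ hyx ?_⟩, ?_⟩
        · rw [W.act W.y hx'.1, W.y_code]
          exact List.mem_toFinset.1 (hom _ (List.mem_toFinset.2 (hvc x hx')))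
        · have e : W.y * k * W.y⁻¹ = k := mul_inv_eq_iff_eq_mul.2 hka.eq.symm
          constructor
          · intro h
            have := (Commute.conj_iff W.y).2 h
            rwa [e] at this
          · intro h
            rw [← Commute.conj_iff W.y, e]
            exact h
      have hflip : ∀ x ∈ W.F.J ⊓ R, ¬ Commute k x → k * x * k⁻¹ = W.z * x := fun x hx' h =>
        mul_inv_eq_iff_eq_mul.1 ((hR.cmt k hkR x hx'.2).resolve_left
          (fun e => h (mul_inv_eq_iff_eq_mul.1 (mul_inv_eq_one.1 e))))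
      obtain ⟨ha1, hia1⟩ := hstep a ha
      obtain ⟨ha2, hia2⟩ := hstep _ ha1
      obtain ⟨a', ha'⟩ : ∃ a', a' = W.y * a * W.y⁻¹ := ⟨_, rfl⟩
      rw [← ha'] at ha1 hia1 ha2 hia2
      have hno' : ¬ Commute k a' := fun h => hno (hia1.2 h)
      have hprod : Commute k (a * a') := by
        refine mul_inv_eq_iff_eq_mul.1 ?_
        calc k * (a * a') * k⁻¹ = (k * a * k⁻¹) * (k * a' * k⁻¹) := by group
          _ = W.z * (a * W.z) * a' := by rw [hflip a ha hno, hflip a' ha1 hno']; group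
          _ = a * a' := by rw [(W.central a).eq, ← mul_assoc W.z, W.F.ext.z2, one_mul]
      have hv2 : W.F.vc (a * a') = W.F.vc (W.y * a' * W.y⁻¹) := by
        rw [W.act _ ha1.1, W.F.vc_mul _ ha.1 _ ha1.1, ha', W.act _ ha.1, W.y_code,
          omC_sq_apply (W.F.vc_lt a), Nat.xor_comm]
      have hlast : Commute k (W.y * a' * W.y⁻¹) := by
        rcases W.F.vc_eq (mul_mem ha.1 ha1.1) ha2.1 hv2 with e | e <;> rw [e]
        exacts [hprod, hprod.mul_right (W.central k)]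
      exact hno' (hia2.2 hlast)
    have hwkj : w = k * j := by rw [hj, mul_inv_cancel_left]
    exact hwkj ▸ (hkcomm a ha).mul_left (hab j hjR a ha)
  have hcentral : ∀ a ∈ W.F.J ⊓ R, a = 1 ∨ a = W.z := by
    intro a ha
    refine hR.zc a ha.2 fun w hw => ?_
    have hwS : W.F.κ w ∈ idc :: q1L := by
      have := (hmem _).2 ⟨w, ⟨hw, hall w hw⟩, rfl⟩
      rwa [hbig, List.mem_toFinset] at this
    have hg := line_gen
    simp only [List.all_eq_true, List.any_eq_true, Bool.and_eq_true, memB_iff] at hg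
    obtain ⟨r, hr, ⟨hr1, hr2⟩, hr3⟩ := hg _ hwS
    obtain ⟨w1, hw1, hw1e⟩ := (hmem r).1 (by rw [hbig]; simp [hr])
    have h2 : W.F.κ (w1 * w) = cm r (W.F.κ w) := by rw [W.mul, hw1e]
    have hc1 := hthin w1 hw1.1 (hw1e ▸ hr) (hw1e ▸ hr1) a ha
    have hc2 := hthin _ (mul_mem hw1.1 hw) (h2 ▸ hr2) (h2 ▸ hr3) a ha
    have := hc1.inv_left.mul_left hc2
    rw [inv_mul_cancel_left] at this
    exact this.symm
  have h2 : Nat.card ↥(W.F.J ⊓ R) ≤ 2 := by
    let : Fintype ↥(W.F.J ⊓ R) := Fintype.ofFinite _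
    rw [Nat.card_eq_fintype_card, ← Finset.card_univ]
    refine (Finset.card_le_card (t := {1, ⟨W.z, W.F.ext.zJ, hR.zR⟩}) fun a _ => ?_).trans Finset.card_le_two
    rw [Finset.mem_insert, Finset.mem_singleton]
    exact (hcentral a a.2).imp (fun e => Subtype.ext e) fun e => Subtype.ext e
  nlinarith

theorem Copy.eq_J : R = W.F.J := by
  by_contra hne
  obtain ⟨u, hu, huc⟩ := hR.exists_thin hne
  have huI := hR.inner hu.1 hu.2
  obtain ⟨x, hxI, hxe⟩ := W.lift _ (xW_lt 1 (by norm_num))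
  obtain ⟨g, -, hge, hgw⟩ := W.F.cl_spec (k := 1) (by norm_num) (W.central x) hxe (c := W.F.κ u) huc
  have hgI : g ∈ W.I := W.mem_I.2 hgw
  refine (hR.conj g⁻¹).false_of_listed (u := g⁻¹ * u * g)
    ⟨⟨u, hu.1, by simp⟩, W.I_le_M (mul_mem (mul_mem (inv_mem hgI) huI) hgI)⟩ ?_
  rw [W.mul, W.mul, ← hge, ← W.mul, ← W.mul, show g⁻¹ * (g * x * g⁻¹) * g = x by group, hxe]
  rfl

end Tw

end Cfsg.Lib.U6ThreeEnd
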