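import Cfsg.Agent.Lib.U6ThreeEnd.TwistWeak
import Cfsg.Agent.Lib.U6ThreeEnd.Parity

/-!
# A twisted normaliser gives a subgroup of index two
-/

set_option autoImplicit false
set_option linter.unusedSectionVars false

namespace Cfsg.Lib.U6ThreeEnd

open Cfsg.Lib.U62Type Cfsg.Lib.U62Core Subgroup

variable {G : Type*} [Group G] [Finite G]

/-- A 2-subgroup that no larger 2-subgroup normalises has odd index. -/
theorem odd_index_of_selfnormal {T : Subgroup G} (hT : IsPGroup 2 T)
    (h : ∀ K : Subgroup G, T ≤ K → IsPGroup 2 K → (∀ x ∈ K, ∀ a, a ∈ T ↔ x * a * x⁻¹ ∈ T) → K ≤ T) :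
    Odd T.index := by
  have : Fact (Nat.Prime 2) := ⟨Nat.prime_two⟩
  rcases Nat.even_or_odd T.index with he | ho
  · exfalso
    obtain ⟨n, hn⟩ := IsPGroup.iff_card.1 hT
    have hdvd : 2 ^ (n + 1) ∣ Nat.card G := by
      rw [← T.card_mul_index, hn, pow_succ]
      exact Nat.mul_dvd_mul_left _ (even_iff_two_dvd.1 he)
    obtain ⟨K, hK, hTK⟩ := Sylow.exists_subgroup_card_pow_succ hdvd hn
    have h2 : (T.subgroupOf K).index = 2 := by
      have h1 := card_mul_index (T.subgroupOf K)
      rw [Nat.card_congr (subgroupOfEquivOfLe hTK).toEquiv, hn, hK, pow_succ] at h1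
      exact Nat.eq_of_mul_eq_mul_left (by positivity) h1
    have hn' := normal_of_index_eq_two h2
    have hle := h K hTK (IsPGroup.of_card hK) fun x hx a => by
      constructor
      · intro ha
        exact hn'.conj_mem ⟨a, hTK ha⟩ ha ⟨x, hx⟩
      · intro ha
        have := hn'.conj_mem ⟨x * a * x⁻¹, hTK ha⟩ ha ⟨x, hx⟩⁻¹
        rw [mem_subgroupOf] at this
        simpa [mul_assoc] using this
    have := card_le_of_le hle
    rw [hK, hn, pow_succ] at this
    have : 0 < 2 ^ n := by positivity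
    omega
  · exact ho

/-- The twisted normaliser is of odd index and its commuting half gives a sign. -/
theorem exists_sign_of_twisted {t : G} {R N : Subgroup G}
    (hN : ∀ g, g ∈ N ↔ Commute g t ∧ g ∈ normalizer (R : Set G)) (hRN : R ≤ N)
    (W : Tw N) (hz : (W.z : G) = t) (hJ : W.F.J = R.subgroupOf N) (s : N) (s2 : s * s = 1)
    (ssemi : cm (W.F.κ s) omC = cm (cm omC omC) (W.F.κ s))
    (avoid : ∀ g : G, ¬ Commute (s : G) (g * W.p * g⁻¹)) :
    ∃ f : G →* ℤˣ, f s = -1 := by
  have : Fact (Nat.Prime 2) := ⟨Nat.prime_two⟩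
  have hJn : W.F.J.Normal := ⟨fun j hj g => W.norm g hj⟩
  have hJp : IsPGroup 2 W.F.J := IsPGroup.of_card (n := 9) (by rw [W.F.ext.card]; norm_num)
  obtain ⟨T0⟩ : Nonempty (Sylow 2 N) := inferInstance
  have hJT : W.F.J ≤ T0 := by
    have h := T0.is_maximal' (T0.isPGroup'.to_sup_of_normal_right hJp) le_sup_left
    exact le_sup_right.trans h.le
  obtain ⟨T, hT⟩ : ∃ T, T = (T0 : Subgroup N).map N.subtype := ⟨_, rfl⟩
  have hTp : IsPGroup 2 T := hT ▸ T0.isPGroup'.map _
  have hTmem : ∀ a : N, (a : G) ∈ T ↔ a ∈ (T0 : Subgroup N) := fun a => by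
    rw [hT]; exact mem_map_iff_mem N.subtype_injective
  -- it is a Sylow subgroup
  have hodd : Odd T.index := by
    refine odd_index_of_selfnormal hTp fun K hTK hKp hKn => ?_
    suffices hKN : K ≤ N by
      have h1 : (T0 : Subgroup N) ≤ K.subgroupOf N := fun a ha => hTK ((hTmem a).2 ha)
      have h2 := T0.is_maximal' (hKp.comap_of_injective N.subtype N.subtype_injective) h1
      intro x hx
      exact (hTmem ⟨x, hKN hx⟩).2 (h2 ▸ (show (⟨x, hKN hx⟩ : N) ∈ K.subgroupOf N from hx))
    intro x hx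
    -- it fixes the involution
    have htT : (W.z : G) ∈ T := (hTmem W.z).2 (hJT W.F.ext.zJ)
    obtain ⟨z', hz'⟩ : ∃ z' : N, z' ∈ (T0 : Subgroup N) ∧ (z' : G) = x * W.z * x⁻¹ := by
      have h := (hKn x hx _).1 htT
      rw [hT] at h
      exact h
    have hcz : ∀ a ∈ (T0 : Subgroup N), Commute a z' := by
      intro a ha
      obtain ⟨b, -, hb⟩ : ∃ b : N, b ∈ (T0 : Subgroup N) ∧ (b : G) = x⁻¹ * a * x := by
        have h := (hKn x⁻¹ (inv_mem hx) _).1 ((hTmem a).2 ha)
        rw [hT, inv_inv] at h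
        exact h
      refine Subtype.ext ?_
      show (a : G) * z' = z' * a
      have e : (a : G) = x * b * x⁻¹ := by rw [hb]; group
      rw [e, hz'.2]
      exact ((Commute.conj_iff x).2 ((W.central b).map N.subtype)).eq
    have hz'J : z' ∈ W.F.J := W.F.ext.self z' (W.central z') fun j hj => (hcz j (hJT hj)).symm
    have hxt : x * t * x⁻¹ = t := by
      rw [← hz, ← hz'.2]
      rcases W.F.ext.zc z' hz'J (fun j hj => (hcz j (hJT hj)).symm) with e | e
      · exfalso
        apply W.F.ext.z1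
        refine Subtype.ext ?_
        have := hz'.2
        rw [e] at this
        exact conj_eq_one_iff.1 this.symm
      · rw [e]
    have hct : Commute x t := mul_inv_eq_iff_eq_mul.1 hxt
    -- and the extraspecial group
    obtain ⟨R', hR'⟩ : ∃ R', R' = (R.map (MulAut.conj x).toMonoidHom).subgroupOf N := ⟨_, rfl⟩
    have hRT : ∀ r ∈ R, r ∈ T := fun r hr =>
      (hTmem ⟨r, hRN hr⟩).2 (hJT (by rw [hJ]; exact hr))
    have hR'N : R.map (MulAut.conj x).toMonoidHom ≤ N := by
      rintro _ ⟨r, hr, rfl⟩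
      have h := (hKn x hx r).1 (hRT r hr)
      rw [hT] at h
      obtain ⟨a, -, ha⟩ := h
      show x * r * x⁻¹ ∈ N
      exact ha ▸ a.2
    have hmem : ∀ a ∈ R', ∃ j ∈ W.F.J, (a : G) = x * j * x⁻¹ := by
      intro a ha
      rw [hR'] at ha
      obtain ⟨r, hr, e⟩ := ha
      exact ⟨⟨r, hRN hr⟩, by rw [hJ]; exact hr, e.symm⟩
    have hmem' : ∀ j ∈ W.F.J, ∀ a : N, (a : G) = x * j * x⁻¹ → a ∈ R' := by
      intro j hj a e
      rw [hR']
      exact ⟨(j : G), by rw [hJ] at hj; exact hj, e.symm⟩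
    have hconjz : x * (W.z : G) * x⁻¹ = W.z := by rw [hz]; exact hxt
    have hpush : ∀ (a : N) (j : N), (a : G) = x * j * x⁻¹ → j = 1 ∨ j = W.z → a = 1 ∨ a = W.z := by
      intro a j e h
      rcases h with rfl | rfl
      · exact Or.inl (Subtype.ext (by rw [e]; simp))
      · exact Or.inr (Subtype.ext (by rw [e]; exact hconjz))
    have hcopy : W.Copy R' := by
      refine ⟨hmem' _ W.F.ext.zJ _ hconjz.symm, ?_, ?_, ?_, ?_⟩
      · rw [hR', Nat.card_congr (subgroupOfEquivOfLe hR'N).toEquiv,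
          card_map_of_injective (MulAut.conj x).injective, ← Nat.card_congr (subgroupOfEquivOfLe hRN).toEquiv,
          ← hJ, W.F.ext.card]
      · intro a ha
        obtain ⟨j, hj, e⟩ := hmem a ha
        exact hpush _ (j * j) (by push_cast; rw [e]; group) (W.F.ext.sq j hj)
      · intro a ha b hb
        obtain ⟨j, hj, e⟩ := hmem a ha
        obtain ⟨k, hk, e'⟩ := hmem b hb
        exact hpush _ (j * k * j⁻¹ * k⁻¹) (by push_cast; rw [e, e']; group) (W.F.ext.cmt j hj k hk)
      · intro a ha hc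
        obtain ⟨j, hj, e⟩ := hmem a ha
        refine hpush a j e (W.F.ext.zc j hj fun k hk => ?_)
        have hkR : (k : G) ∈ R := by rw [hJ] at hk; exact hk
        have h := hc ⟨x * k * x⁻¹, hR'N ⟨k, hkR, rfl⟩⟩ (hmem' k hk _ rfl)
        have h' : Commute (a : G) (x * k * x⁻¹) := h.map N.subtype
        rw [e] at h'
        exact Subtype.ext ((Commute.conj_iff x).1 h').eq
    have heq := hcopy.eq_J
    refine (hN x).2 ⟨hct, mem_normalizer_iff_map_conj_eq.2 ?_⟩
    refine le_antisymm ?_ ?_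
    · intro r hr
      have h : (⟨r, hR'N hr⟩ : N) ∈ R' := by rw [hR']; exact hr
      rw [heq, hJ] at h
      exact h
    · intro r hr
      have h : (⟨r, hRN hr⟩ : N) ∈ W.F.J := by rw [hJ]; exact hr
      rw [← heq, hR'] at h
      exact h
  -- the sign
  have hindex : W.M.index = 2 := by
    refine index_eq_two_iff.2 ⟨s, fun b => ?_⟩
    have hns : s ∉ W.M := by
      intro h
      rw [W.mem_M.1 h] at ssemi
      have := congrArg (fun c => cm c (W.F.κ s⁻¹)) ssemi
      simp only [cm_assoc, W.inv₁] at this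
      exact code_facts.2.2.1 this
    by_cases hb : b ∈ W.M
    · exact Or.inr ⟨hb, fun e => hns (by simpa using mul_mem (inv_mem hb) e)⟩
    · refine Or.inl ⟨?_, hb⟩
      have hb' := (W.semilinear b).resolve_left (fun h => hb (W.mem_M.2 h))
      have ho4 : cm (cm omC omC) (cm omC omC) = omC := by decide +kernel
      rw [W.mem_M, W.mul, cm_assoc, ssemi, ← cm_assoc (W.F.κ b), ← cm_assoc (W.F.κ b) omC omC, hb',
        cm_assoc (cm omC omC), hb', ← cm_assoc (cm omC omC), ho4, cm_assoc]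
  obtain ⟨m, hm, hidx⟩ : ∃ m, Odd m ∧ (W.M.map N.subtype).index = 2 * m := by
    refine ⟨N.index, ?_, by rw [index_map_subtype, hindex]⟩
    have hle : T ≤ N := hT ▸ map_subtype_le _
    exact hodd.of_dvd_nat (dvd_of_mul_left_eq _ (relIndex_mul_index hle))
  refine exists_sign_hom (W.M.map N.subtype) (by exact congrArg Subtype.val s2) hm hidx fun g hg => ?_
  obtain ⟨u, hu, e⟩ := hg
  have hu2 : u * u = 1 := by
    refine Subtype.ext ?_
    show (u : G) * u = 1
    rw [show (u : G) = g * s * g⁻¹ from e, show g * (s : G) * g⁻¹ * (g * s * g⁻¹) = g * (s * s) * g⁻¹ by group,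
      show (s : G) * s = 1 from congrArg Subtype.val s2, mul_one, mul_inv_cancel]
  obtain ⟨h, hh⟩ := W.invol_comm hu hu2
  apply avoid (g⁻¹ * h)
  have h' : Commute (g * s * g⁻¹) ((h : G) * W.p * (h : G)⁻¹) := by
    have := hh.map N.subtype
    rwa [show N.subtype u = g * s * g⁻¹ from e] at this
  have := (Commute.conj_iff g⁻¹).2 h'
  convert this using 1 <;> group

end Cfsg.Lib.U6ThreeEnd
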